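import Groth.Prelude.Def_Formal
import Groth.Prelude.Def_ClSub2
import Groth.Agent.Ega1.SubSheaf
import Groth.Agent.Models.H36.H1Sum

/-!
# `O → O/J O` factors through `O → O/W` if the ideal of `W` is locally contained in `J O`
-/

set_option autoImplicit false
universe u
open CategoryTheory CategoryTheory.Limits AlgebraicGeometry TopologicalSpace Opposite

namespace K376.RatDivB

open Groth.Agent.Ega1.SubSheaf

variable {A : Type u} [CommRing A] {Z : Scheme.{u}} [Z.Over (Spec (CommRingCat.of A))]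

/-- The structure map `A → Γ(Z, U)`. -/
noncomputable def sc (U : Z.Opens) : A →+* Γ(Z, U) :=
  (Z.presheaf.map (homOfLE (le_top : U ≤ ⊤)).op).hom.comp (Coh.toGlobal (Z ↘ Spec (CommRingCat.of A)))

theorem smulMod_app (M : Z.Modules) (a : A) (U : Z.Opens) (t : Γ(M, U)) :
    (Formal.smulMod A M a).app U t = sc U a • t := rfl

theorem π_smul (J : Ideal A) (M : Z.Modules) {a : A} (ha : a ∈ J) (U : Z.Opens) (t : Γ(M, U)) :
    (cokernel.π (Formal.smulFamily J M)).app U (sc U a • t) = 0 := by
  have h : Formal.smulMod A M a ≫ cokernel.π (Formal.smulFamily J M) = 0 := by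
    have h1 : Formal.smulMod A M a = Sigma.ι (fun _ : J => M) ⟨a, ha⟩ ≫ Formal.smulFamily J M := by
      simp [Formal.smulFamily]
    rw [h1, Category.assoc, cokernel.condition, comp_zero]
  have h2 := congrArg (fun φ : M ⟶ _ => φ.app U t) h
  exact h2

theorem sc_res {U V : Z.Opens} (h : V ≤ U) (a : A) :
    Z.presheaf.map (homOfLE h).op (sc U a) = sc V a := by
  change (Z.presheaf.map (homOfLE (le_top : U ≤ ⊤)).op ≫ Z.presheaf.map (homOfLE h).op)
    (Coh.toGlobal (Z ↘ Spec (CommRingCat.of A)) a) = _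
  rw [← Functor.map_comp]
  rfl

/-- A section of `J Γ(Z, U)` dies in `O/J O`. -/
theorem π_of_mem (J : Ideal A) (U : Z.Opens) (t : Γ(Z, U)) (ht : t ∈ J.map (sc (A := A) U)) :
    (cokernel.π (Formal.smulFamily J (Coh.structureModule Z))).app U (t : Γ(Coh.structureModule Z, U)) = 0 := by
  refine Submodule.span_induction (p := fun (t : Γ(Z, U)) _ =>
    (cokernel.π (Formal.smulFamily J (Coh.structureModule Z))).app U (t : Γ(Coh.structureModule Z, U)) = 0)
    ?_ ?_ ?_ ?_ ht
  · rintro _ ⟨a, ha, rfl⟩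
    have h1 := π_smul J (Coh.structureModule Z) ha U (1 : Γ(Z, U))
    have h2 : (sc U a • (1 : Γ(Z, U)) : Γ(Coh.structureModule Z, U)) = (sc (A := A) U a : Γ(Z, U)) :=
      mul_one (sc (A := A) U a)
    rw [← h2]
    exact h1
  · exact map_zero _
  · intro x y _ _ hx hy
    refine (map_add _ _ _).trans ?_
    rw [hx, hy, add_zero]
  · intro c x _ hx
    have h1 := app_smul' (cokernel.π (Formal.smulFamily J (Coh.structureModule Z))) c
      (x : Γ(Coh.structureModule Z, U))
    refine h1.trans ?_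
    rw [hx, smul_zero]

/-- The factorization. -/
theorem exists_factor (J : Ideal A) {W : Scheme.{u}} (i : W ⟶ Z) [IsClosedImmersion i]
    (h : ∀ x : Z, ∃ U : Z.Opens, x ∈ U ∧ ∀ V : Z.Opens, V ≤ U → IsAffineOpen V →
      RingHom.ker (i.app V).hom ≤ J.map (sc (A := A) V)) :
    ∃ τ : (Scheme.Modules.pushforward i).obj (Coh.structureModule W) ⟶
        cokernel (Formal.smulFamily J (Coh.structureModule Z)),
      ClSub.unitToPush i ≫ τ = cokernel.π (Formal.smulFamily J (Coh.structureModule Z)) := by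
  have hepi : Epi (ClSub.unitToPush i) := Groth.Agent.Models.H36.H1Sum.epi_unitToPush i
  have hker : kernel.ι (ClSub.unitToPush i) ≫ cokernel.π (Formal.smulFamily J (Coh.structureModule Z)) = 0 := by
    apply Scheme.Modules.hom_ext
    intro U
    ext s
    refine section_ext _ _ _ fun x hx => ?_
    obtain ⟨U', hxU', hU'⟩ := h x
    obtain ⟨V, hV, hxV, hVU⟩ := exists_isAffineOpen_mem_and_subset (X := Z) (U := U ⊓ U') (x := x) ⟨hx, hxU'⟩
    have hVU1 : V ≤ U := fun y hy => (hVU hy).1
    have hVU2 : V ≤ U' := fun y hy => (hVU hy).2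
    refine ⟨V, hVU1, hxV, ?_⟩
    rw [← app_res]
    have h0 : ((0 : kernel (ClSub.unitToPush i) ⟶
      cokernel (Formal.smulFamily J (Coh.structureModule Z))).app U s) = 0 := rfl
    rw [h0]
    refine Eq.trans ?_ (map_zero _).symm
    let s' := res (kernel (ClSub.unitToPush i)) hVU1 s
    let t : Γ(Z, V) := (kernel.ι (ClSub.unitToPush i)).app V s'
    have h1 : (i.app V).hom t = 0 := by
      have h2 : (kernel.ι (ClSub.unitToPush i) ≫ ClSub.unitToPush i).app V s' = 0 := by
        rw [kernel.condition]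
        rfl
      exact h2
    have h2 : t ∈ J.map (sc (A := A) V) := hU' V hVU2 hV h1
    exact π_of_mem J V t h2
  exact ⟨Abelian.epiDesc (ClSub.unitToPush i) _ hker, Abelian.comp_epiDesc _ _ _⟩

end K376.RatDivB
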