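import Groth.Agent.Resolve.K376.RatDivA
import Groth.Agent.Resolve.K376.RatDivB
import Groth.Agent.Ega1.LocMod684
import Groth.Agent.CohqA.HOpen
import Groth.Agent.S0007
import Groth.Agent.PerfA.QCohSerre
import Groth.Agent.Flat2G.NoethVanish
import Groth.Agent.Sga2lef.H24.ToPn
import Groth.Agent.PerfA.CohSerre
import Groth.Agent.CurvesB.UnitCoh
import Groth.Agent.Dix.Cast1
import Groth.Agent.Ega3B.DevQC
import Groth.Agent.CohqB.HSeqMod
import Groth.Agent.Dcoh.LocalD

/-!
# Torsion of cohomology and quotients of `H^1`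
-/

set_option autoImplicit false
universe u
open CategoryTheory CategoryTheory.Limits AlgebraicGeometry TopologicalSpace Opposite

namespace K376.RatDivC

open Groth.Agent

theorem basicOpen_toGlobal {A : Type u} [CommRing A] {Z : Scheme.{u}} (π : Z ⟶ Spec (CommRingCat.of A)) (a : A) :
    Z.basicOpen (Coh.toGlobal π a) = π ⁻¹ᵁ (PrimeSpectrum.basicOpen a) := by
  have h1 := Scheme.preimage_basicOpen π ((Scheme.ΓSpecIso (CommRingCat.of A)).inv a)
  exact h1.symm.trans (congrArg (fun U => π ⁻¹ᵁ U) (basicOpen_eq_of_affine (R := CommRingCat.of A) a))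

/-- Classes in `H^p(Z, M)`, `p > 0`, are killed by powers of `a` if the preimage of `D(a)` is affine. -/
theorem exists_pow_smul {A : Type u} [CommRing A] {Z : Scheme.{u}} [Z.Over (Spec (CommRingCat.of A))]
    [IsProper (Z ↘ Spec (CommRingCat.of A))] (M : Z.Modules) (hM : Coh.IsQCoh M) (a : A) (p : ℕ) (hp : 0 < p)
    (haff : IsAffineOpen ((Z ↘ Spec (CommRingCat.of A)) ⁻¹ᵁ (PrimeSpectrum.basicOpen a)))
    (x : Coh.HH Z M p) : ∃ k : ℕ, a ^ k • x = 0 := by
  have : CompactSpace Z := QuasiCompact.compactSpace_of_compactSpace (Z ↘ Spec (CommRingCat.of A))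
  have : Z.IsSeparated := by
    rw [Scheme.isSeparated_iff, ← terminal.comp_from (Z ↘ Spec (CommRingCat.of A))]
    infer_instance
  set b := Coh.toGlobal (Z ↘ Spec (CommRingCat.of A)) a with hb
  have h1 : IsAffineOpen (Z.basicOpen b) := by rw [hb, basicOpen_toGlobal]; exact haff
  have : IsAffine (Z.basicOpen b).toScheme := h1
  have h2 : Coh.IsQCoh (M.restrict (Z.basicOpen b).ι) := PerfA.QCohSerre.isQCoh_restrict _ hM
  have h3 : Subsingleton (Coh.HHon Z M (Z.basicOpen b) p) := Groth.Agent.S0007.result _ _ p hp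
  have h4 : Subsingleton (Groth.Agent.FormalA.HUBasic.E (Coh.toAb M) p (Z.basicOpen b)) :=
    ((FormalA.HUBasic.toE _ p _).symm.trans (CohqA.HOpen.HHonEquiv M _ p)).toEquiv.subsingleton
  obtain ⟨N, hN⟩ := Ega1.LocMod684.exists_pow_smul_eq_zero M hM b p x (Subsingleton.elim _ _)
  refine ⟨N, ?_⟩
  have h5 : Coh.toGlobal (Z ↘ Spec (CommRingCat.of A)) (a ^ N) = b ^ N := map_pow _ _ _
  exact (congrArg (fun c : Γ(Z, ⊤) => (c • x : Coh.HH Z M p)) h5).trans hN

/-- `H^q(S₃) = 0` if `H^q(S₂) = 0 = H^{q+1}(S₁)`. -/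
theorem subsingleton_right {X : Scheme.{u}} {S : ShortComplex X.Modules} (hS : S.ShortExact) (q : ℕ)
    (h2 : Subsingleton (Coh.HH X S.X₂ q)) (h1 : Subsingleton (Coh.HH X S.X₁ (q + 1))) :
    Subsingleton (Coh.HH X S.X₃ q) := by
  have key : ∀ x : Coh.HH X S.X₃ q, x = 0 := fun x => by
    obtain ⟨y, rfl⟩ := CohqB.HSeqMod.exact₃ hS q x (h1.elim _ _)
    rw [h2.elim y 0, map_zero]
  exact ⟨fun a b => (key a).trans (key b).symm⟩

/-- If `H^2` of coherent modules vanishes, `H^1` of the structure sheaf surjects onto `H^1` of closed subschemes. -/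
theorem subsingleton_closed {W Z : Scheme.{u}} [IsLocallyNoetherian Z] (i : W ⟶ Z) [IsClosedImmersion i] (p : ℕ)
    (h1 : Subsingleton (Coh.HH Z (Coh.structureModule Z) p))
    (h2 : ∀ M : Z.Modules, Coh.IsCoh M → Subsingleton (Coh.HH Z M (p + 1))) :
    Subsingleton (Coh.HH W (Coh.structureModule W) p) := by
  refine Sga2lef.H24.ToPn.subsingleton_HH_of_pushforward i _ p ?_
  have hepi : Epi (ClSub.unitToPush i) := Groth.Agent.Models.H36.H1Sum.epi_unitToPush i
  have : IsLocallyNoetherian W := LocallyOfFiniteType.isLocallyNoetherian i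
  have hW : Coh.IsQCoh ((Scheme.Modules.pushforward i).obj (Coh.structureModule W)) :=
    Ega3B.DevQC.isQCoh_push i (CurvesB.UnitCoh.isCoh_structureModule W).1
  have hK : Coh.IsCoh (kernel (ClSub.unitToPush i)) :=
    PerfA.CohSerre.isCoh_kernel _ (CurvesB.UnitCoh.isCoh_structureModule Z) hW
  have hS : (ShortComplex.mk (kernel.ι (ClSub.unitToPush i)) (ClSub.unitToPush i) (kernel.condition _)).ShortExact :=
    { exact := ShortComplex.exact_kernel _ }
  exact subsingleton_right hS p h1 (h2 _ hK)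

/-- Lifting a closed immersion to an open subscheme. -/
theorem exists_lift {W Y : Scheme.{u}} (i : W ⟶ Y) [IsClosedImmersion i] (U : Y.Opens) (h : ∀ w, i w ∈ U) :
    ∃ i' : W ⟶ U.toScheme, IsClosedImmersion i' ∧ i' ≫ U.ι = i := by
  have hr : Set.range i ⊆ Set.range U.ι := by
    rintro _ ⟨w, rfl⟩
    rw [Scheme.Opens.range_ι]
    exact h w
  refine ⟨IsOpenImmersion.lift U.ι i hr, ?_, IsOpenImmersion.lift_fac _ _ _⟩
  have : IsClosedImmersion (IsOpenImmersion.lift U.ι i hr ≫ U.ι) := by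
    rw [IsOpenImmersion.lift_fac]; infer_instance
  exact IsClosedImmersion.of_comp _ U.ι

/-- The dimension of the fibres of a restriction. -/
theorem dim_fiber_restrict {X Y : Scheme.{u}} (f : Y ⟶ X) (V : X.Opens) (y : V.toScheme) :
    topologicalKrullDim ↥((f ∣_ V).fiber y) ≤ topologicalKrullDim ↥(f.fiber (V.ι y)) := by
  rw [IsHomeomorph.topologicalKrullDim_eq _ ((f ∣_ V).fiberHomeo y).isHomeomorph,
    IsHomeomorph.topologicalKrullDim_eq _ (f.fiberHomeo (V.ι y)).isHomeomorph]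
  have e : ∀ c : (f ⁻¹ᵁ V : Scheme.{u}), V.ι ((f ∣_ V) c) = f ((f ⁻¹ᵁ V).ι c) := fun c => by
    rw [← Scheme.Hom.comp_apply, ← Scheme.Hom.comp_apply, morphismRestrict_ι]
  let g : ((f ∣_ V) ⁻¹' {y}) → (f ⁻¹' {V.ι y}) := fun z => ⟨(f ⁻¹ᵁ V).ι z.1, by
    have hz : (f ∣_ V) z.1 = y := z.2
    change f ((f ⁻¹ᵁ V).ι z.1) = _
    rw [← e, hz]⟩
  have hg : Topology.IsInducing g := by
    have h1 : Topology.IsInducing (Subtype.val ∘ g) :=
      (f ⁻¹ᵁ V).ι.isOpenEmbedding.isInducing.comp Topology.IsInducing.subtypeVal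
    exact Topology.IsInducing.of_comp (h1.continuous.subtype_mk _) continuous_subtype_val h1
  exact hg.topologicalKrullDim_le

end K376.RatDivC
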