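import Groth.Agent.S1655
import Groth.Agent.Fga.DimLt
import Groth.Agent.Ega3B.ProjProper

/-!
# Fibres of proper birational morphisms of surfaces
-/

set_option autoImplicit false

universe u

open CategoryTheory AlgebraicGeometry TopologicalSpace

namespace K376.DesFib

/-- A zero-dimensional irreducible component of a Noetherian T0 space is an isolated point. -/
theorem exists_isOpen_singleton {F : Type*} [TopologicalSpace F] [NoetherianSpace F] [T0Space F] (Z : Set F)
    (hZ : Z ∈ irreducibleComponents F) (hd : topologicalKrullDim Z < 1) : ∃ z : F, IsOpen ({z} : Set F) := by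
  have hirr : IsIrreducible Z := hZ.1
  have hclosed : IsClosed Z := isClosed_of_mem_irreducibleComponents Z hZ
  have : IrreducibleSpace Z := Subtype.irreducibleSpace hirr
  -- `Z` is a point
  have hcl : ∀ z : Z, closure ({z} : Set Z) = Set.univ := by
    intro z
    by_contra hne
    have h1 : ((0 : ℕ) : WithBot ℕ∞) ≤ topologicalKrullDim (closure ({z} : Set Z)) := by
      have : Nonempty (closure ({z} : Set Z)) := ⟨⟨z, subset_closure rfl⟩⟩
      have h2 : Nonempty (IrreducibleCloseds (closure ({z} : Set Z))) := by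
        have hz : IrreducibleSpace (closure ({z} : Set Z)) :=
          Subtype.irreducibleSpace (isIrreducible_singleton.closure)
        exact ⟨⟨Set.univ, IrreducibleSpace.isIrreducible_univ _, isClosed_univ⟩⟩
      exact Order.krullDim_nonneg
    have h3 := Groth.Agent.Fga.DimLt.exists_ltSeries_succ isClosed_closure hne h1
    exact absurd (lt_of_le_of_lt h3 hd) (by simp)
  obtain ⟨z, hz⟩ := hirr.1
  have hsub : Z = {z} := by
    refine Set.Subset.antisymm ?_ (Set.singleton_subset_iff.2 hz)
    intro w hw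
    have h1 : (⟨z, hz⟩ : Z) ⤳ ⟨w, hw⟩ := by
      rw [specializes_iff_mem_closure, hcl]; trivial
    have h2 : (⟨w, hw⟩ : Z) ⤳ ⟨z, hz⟩ := by
      rw [specializes_iff_mem_closure, hcl]; trivial
    have h3 := (h1.antisymm h2).eq
    exact (congrArg Subtype.val h3).symm
  refine ⟨z, ?_⟩
  -- the union of the other components
  have hfin : (irreducibleComponents F).Finite := NoetherianSpace.finite_irreducibleComponents
  have hU : IsClosed (⋃₀ (irreducibleComponents F \ {Z})) := by
    rw [Set.sUnion_eq_biUnion]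
    exact (hfin.subset Set.sdiff_subset).isClosed_biUnion fun W hW => isClosed_of_mem_irreducibleComponents W hW.1
  have heq : ({z} : Set F) = (⋃₀ (irreducibleComponents F \ {Z}))ᶜ := by
    ext w
    rw [Set.mem_singleton_iff, Set.mem_compl_iff]
    constructor
    · rintro rfl ⟨W, hW, hwW⟩
      have h1 : Z ⊆ W := by rw [hsub]; exact Set.singleton_subset_iff.2 hwW
      exact hW.2 (Set.Subset.antisymm (hZ.2 hW.1.1 h1) h1)
    · intro hw
      have h1 : w ∈ ⋃₀ irreducibleComponents F := by rw [sUnion_irreducibleComponents]; trivial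
      obtain ⟨W, hW, hwW⟩ := h1
      by_cases hWZ : W = Z
      · rw [hWZ, hsub] at hwW
        exact hwW
      · exact absurd ⟨W, ⟨hW, hWZ⟩, hwW⟩ hw
  rw [heq]
  exact hU.isOpen_compl

theorem quasiFiniteAt_of_isOpen {X Y : Scheme.{u}} (f : Y ⟶ X) [LocallyOfFiniteType f] (x : X)
    (z : ↥(f.base ⁻¹' ({x} : Set X))) (hz : IsOpen ({z} : Set ↥(f.base ⁻¹' ({x} : Set X)))) :
    f.QuasiFiniteAt z.1 := by
  obtain ⟨y, rfl⟩ := z
  rw [Scheme.Hom.quasiFiniteAt_iff_isOpen_singleton_asFiber, ← (f.fiberHomeo (f y)).isOpen_image]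
  simp only [Set.image_singleton, Scheme.Hom.asFiber, Homeomorph.apply_symm_apply]
  exact hz

theorem isRegular_of_isIso {X Y : Scheme.{u}} (f : Y ⟶ X)
    (hregY : ∀ y : Y, IsRegularLocalRing (Y.presheaf.stalk y)) (V : X.Opens) (hV : IsIso (f ∣_ V)) (x : X)
    (hx : x ∈ V) : IsRegularLocalRing (X.presheaf.stalk x) := by
  obtain ⟨y, hy⟩ := (f ∣_ V).homeomorph.surjective ⟨x, hx⟩
  have h1 : IsIso ((f ∣_ V).stalkMap y) := inferInstance
  have h2 := hregY y.1
  let e1 := (asIso ((f ∣_ V).stalkMap y)).commRingCatIsoToRingEquiv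
  let e2 := (asIso ((f ⁻¹ᵁ V).ι.stalkMap y)).commRingCatIsoToRingEquiv
  let e3 := (asIso (V.ι.stalkMap ((f ∣_ V) y))).commRingCatIsoToRingEquiv
  have h3 : IsRegularLocalRing ((f ⁻¹ᵁ V : Y.Opens).toScheme.presheaf.stalk y) :=
    IsRegularLocalRing.of_ringEquiv e2
  have h4 : IsRegularLocalRing (V.toScheme.presheaf.stalk ((f ∣_ V) y)) := IsRegularLocalRing.of_ringEquiv e1.symm
  have h5 : IsRegularLocalRing (X.presheaf.stalk (V.ι ((f ∣_ V) y))) := IsRegularLocalRing.of_ringEquiv e3.symm
  have h6 : V.ι ((f ∣_ V) y) = x := by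
    have : (f ∣_ V) y = ⟨x, hx⟩ := hy
    rw [this]
    rfl
  rwa [h6] at h5

theorem eq_one_of (d : WithBot ℕ∞) (h1 : 1 ≤ d) (h2 : d < ((2 : ℕ) : WithBot ℕ∞)) : d = 1 := by
  induction d using WithBot.recBotCoe with
  | bot => simp at h1
  | coe d =>
    induction d using ENat.recTopCoe with
    | top => exact absurd h2 (by simp)
    | coe n =>
      have h3 : ((1 : ℕ) : WithBot ℕ∞) ≤ ((n : ℕ) : WithBot ℕ∞) := h1
      have h4 : ((n : ℕ) : WithBot ℕ∞) < ((2 : ℕ) : WithBot ℕ∞) := h2
      rw [Nat.cast_le] at h3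
      rw [Nat.cast_lt] at h4
      have h5 : n = 1 := by omega
      rw [h5]
      rfl

theorem surjective {X Y : Scheme.{u}} [IsIntegral X] (f : Y ⟶ X) [IsProper f] (W : X.Opens)
    (hW : (W : Set X).Nonempty) (hfW : IsIso (f ∣_ W)) : Function.Surjective f.base := by
  have h1 : IsClosed (Set.range f.base) := f.isClosedMap.isClosed_range
  have h2 : (W : Set X) ⊆ Set.range f.base := by
    intro x hx
    obtain ⟨y, hy⟩ := (f ∣_ W).homeomorph.surjective ⟨x, hx⟩
    refine ⟨y.1, ?_⟩
    have h3 : (f ∣_ W) y = ⟨x, hx⟩ := hy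
    have h4 : W.ι ((f ∣_ W) y) = f ((f ⁻¹ᵁ W).ι y) := by
      rw [← Scheme.Hom.comp_apply, ← Scheme.Hom.comp_apply, morphismRestrict_ι]
    rw [h3] at h4
    exact h4.symm
  have h3 : Dense (W : Set X) := W.isOpen.dense hW
  have h4 : Set.range f.base = Set.univ := by
    rw [← Set.univ_subset_iff, ← h3.closure_eq]
    exact h1.closure_subset_iff.2 h2
  exact Set.range_eq_univ.1 h4

/-- Every component of the fibre over a non-regular normal closed point has dimension one. -/
theorem main {X Y : Scheme.{u}} [IsNoetherian X] [IsIntegral X] [IsIntegral Y] (f : Y ⟶ X) [IsProper f]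
    (hdimY : topologicalKrullDim Y = 2) (hregY : ∀ y : Y, IsRegularLocalRing (Y.presheaf.stalk y))
    (W : X.Opens) (hW : (W : Set X).Nonempty) (hfW : IsIso (f ∣_ W)) (x : X) (hxc : IsClosed ({x} : Set X))
    (hxn : IsIntegrallyClosed (X.presheaf.stalk x)) (hx : ¬ IsRegularLocalRing (X.presheaf.stalk x)) :
    (f.base ⁻¹' ({x} : Set X)).Nonempty ∧
      ∀ Z ∈ irreducibleComponents ↥(f.base ⁻¹' ({x} : Set X)), topologicalKrullDim ↥Z = 1 := by
  have hsurj := surjective f W hW hfW
  refine ⟨?_, fun Z hZ => ?_⟩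
  · obtain ⟨y, hy⟩ := hsurj x
    exact ⟨y, hy⟩
  have hxW : x ∉ W := fun h => hx (isRegular_of_isIso f hregY W hfW x h)
  have hNY : IsNoetherian Y :=
    { toIsLocallyNoetherian := LocallyOfFiniteType.isLocallyNoetherian f
      toCompactSpace := QuasiCompact.compactSpace_of_compactSpace f }
  have : NoetherianSpace Y := inferInstance
  have : NoetherianSpace ↥(f.base ⁻¹' ({x} : Set X)) := inferInstance
  -- not quasi-finite
  have hnq : ∀ z : ↥(f.base ⁻¹' ({x} : Set X)), ¬ IsOpen ({z} : Set ↥(f.base ⁻¹' ({x} : Set X))) := by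
    intro z hz
    have h1 := quasiFiniteAt_of_isOpen f x z hz
    obtain ⟨V, hxV, hV⟩ := Groth.Agent.S1655.result f W hW hfW x hxn z.1 z.2 h1
    exact hx (isRegular_of_isIso f hregY V hV x hxV)
  have hge : ¬ topologicalKrullDim Z < 1 := fun h => by
    obtain ⟨z, hz⟩ := exists_isOpen_singleton Z hZ h
    exact hnq z hz
  rw [not_lt] at hge
  -- the upper bound
  let Z' : Set Y := Subtype.val '' Z
  have hZc : IsClosed Z' := by
    have h1 : IsClosed (f.base ⁻¹' ({x} : Set X)) := hxc.preimage f.continuous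
    exact h1.isClosedEmbedding_subtypeVal.isClosedMap _ (isClosed_of_mem_irreducibleComponents Z hZ)
  have hne : Z' ≠ Set.univ := by
    intro h
    obtain ⟨w, hw⟩ := hW
    obtain ⟨y, hy⟩ := hsurj w
    have h1 : y ∈ Z' := by rw [h]; trivial
    obtain ⟨z, hz, rfl⟩ := h1
    have h2 : f.base z.1 = x := z.2
    rw [← hy, h2] at hw
    exact hxW hw
  have hlt : topologicalKrullDim Z' < ((2 : ℕ) : WithBot ℕ∞) := by
    refine Groth.Agent.Fga.DimLt.topologicalKrullDim_lt (A := Set.univ)
      (IrreducibleSpace.isIrreducible_univ _) hZc (Set.subset_univ _) hne ?_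
    have h1 : topologicalKrullDim (Set.univ : Set Y) = topologicalKrullDim Y :=
      (Homeomorph.Set.univ Y).isHomeomorph.topologicalKrullDim_eq _
    rw [h1, hdimY]
    norm_num
  have heq : topologicalKrullDim Z = topologicalKrullDim Z' := by
    let e : Z ≃ₜ Z' := (Topology.IsEmbedding.subtypeVal.homeomorphImage Z)
    exact e.isHomeomorph.topologicalKrullDim_eq _
  rw [← heq] at hlt
  exact eq_one_of _ hge hlt

/-- A point of a finite closed set in a Jacobson space is closed. -/
theorem isClosed_of_mem_finite {X : Type*} [TopologicalSpace X] [JacobsonSpace X] {S : Set X} (hS : S.Finite)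
    (hSc : IsClosed S) {x : X} (hx : x ∈ S) : IsClosed ({x} : Set X) := by
  have h1 : (closure ({x} : Set X)).Finite := hS.subset (hSc.closure_subset_iff.2 (Set.singleton_subset_iff.2 hx))
  have h2 := closure_inter_closedPoints (X := X) (Z := closure ({x} : Set X)) isClosed_closure
  have h3 : IsClosed (closure ({x} : Set X) ∩ closedPoints X) := by
    rw [← Set.biUnion_of_singleton (closure ({x} : Set X) ∩ closedPoints X)]
    exact (h1.subset Set.inter_subset_left).isClosed_biUnion fun y hy => hy.2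
  rw [h3.closure_eq] at h2
  have h4 : x ∈ closure ({x} : Set X) ∩ closedPoints X := by rw [h2]; exact subset_closure rfl
  exact h4.2

end K376.DesFib
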