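import Groth.Agent.CurvesC.Modif
import Groth.Agent.Ega1.ReducedSub

/-!
# Two modifications of an integral scheme are dominated by a third one

* `exists_dominating`: for modifications `f₁ : X₁ ⟶ Y`, `f₂ : X₂ ⟶ Y` of an integral scheme, the closure of the
  graph of the birational map is a modification dominating both.
-/

set_option autoImplicit false
universe u
open CategoryTheory CategoryTheory.Limits AlgebraicGeometry TopologicalSpace Opposite

namespace K376.Dominate

open Groth.Agent.CurvesC.ModDim Groth.Agent.CurvesC.Modif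

/-- The reduced closure of an open subset which is an integral scheme. -/
theorem exists_closure {P : Scheme.{u}} (V : P.Opens) [IsIntegral V.toScheme] :
    ∃ (X : Scheme.{u}) (i : X ⟶ P), IsClosedImmersion i ∧ IsIntegral X ∧ IsIso (i ∣_ V) ∧
      Set.range i = closure (V : Set P) := by
  let C : Closeds P := ⟨closure (V : Set P), isClosed_closure⟩
  let I := Scheme.IdealSheafData.vanishingIdeal C
  have hred : IsReduced I.subscheme := Groth.Agent.Ega1.ReducedSub.isReduced_subscheme_vanishingIdeal C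
  have hrange : Set.range I.subschemeι = closure (V : Set P) := by
    rw [Scheme.IdealSheafData.range_subschemeι, Scheme.IdealSheafData.coe_support_vanishingIdeal]
    rfl
  have hirrV : IsIrreducible (V : Set P) := by
    have h1 : IsIrreducible (Set.range V.ι) := by
      rw [← Set.image_univ]
      exact (IrreducibleSpace.isIrreducible_univ _).image _ V.ι.continuous.continuousOn
    rwa [Scheme.Opens.range_ι] at h1
  have hirr : IrreducibleSpace I.subscheme := by
    have h1 : IsIrreducible (Set.range I.subschemeι) := by rw [hrange]; exact hirrV.closure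
    have h2 := I.subschemeι.isClosedEmbedding
    have h3 : IrreducibleSpace (Set.range I.subschemeι) := Subtype.irreducibleSpace h1
    let e := h2.toIsEmbedding.toHomeomorph
    have h4 : IsIrreducible (Set.univ : Set I.subscheme) := by
      have h5 : IsIrreducible (e.symm '' Set.univ) :=
        (IrreducibleSpace.isIrreducible_univ _).image _ e.symm.continuous.continuousOn
      rwa [Set.image_univ, e.symm.surjective.range_eq] at h5
    exact (irreducibleSpace_def _).mpr h4
  have hint : IsIntegral I.subscheme := isIntegral_of_irreducibleSpace_of_isReduced _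
  refine ⟨I.subscheme, I.subschemeι, inferInstance, hint, ?_, hrange⟩
  have hcl : IsClosedImmersion (I.subschemeι ∣_ V) :=
    MorphismProperty.of_isPullback (isPullback_morphismRestrict I.subschemeι V).flip inferInstance
  have hsurj : Surjective (I.subschemeι ∣_ V) := by
    refine ⟨fun v => ?_⟩
    have h1 : (v.1 : P) ∈ Set.range I.subschemeι := by
      rw [hrange]; exact subset_closure v.2
    obtain ⟨y, hy⟩ := h1
    refine ⟨⟨y, ?_⟩, ?_⟩
    · change I.subschemeι y ∈ V
      rw [hy]; exact v.2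
    · apply Subtype.ext
      exact (morphismRestrict_base_coe I.subschemeι V ⟨y, by change I.subschemeι y ∈ V; rw [hy]; exact v.2⟩).trans hy
  exact isIso_of_isClosedImmersion_of_surjective _

/-- A morphism that is an isomorphism over an open containing the image of `t` becomes an isomorphism after base
change along `t`. -/
theorem isIso_of_isPullback {X X' P Q : Scheme.{u}} {b : X ⟶ X'} {s : Q ⟶ X} {k : Q ⟶ P} {t : P ⟶ X'}
    (h : IsPullback s k b t) (U : X'.Opens) [IsIso (b ∣_ U)] (ht : Set.range t ⊆ U) : IsIso k := by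
  have ht' : Set.range t ⊆ Set.range U.ι := by rwa [Scheme.Opens.range_ι]
  let t₀ := IsOpenImmersion.lift U.ι t ht'
  have ht₀ : t₀ ≫ U.ι = t := IsOpenImmersion.lift_fac _ _ _
  have h1 : IsPullback (b ⁻¹ᵁ U).ι (b ∣_ U) b U.ι := (isPullback_morphismRestrict b U).flip
  have hs : (s ≫ b) = (k ≫ t₀) ≫ U.ι := by rw [h.w, Category.assoc, ht₀]
  let s₀ : Q ⟶ b ⁻¹ᵁ U := h1.lift s (k ≫ t₀) hs
  have hs₀ : s₀ ≫ (b ⁻¹ᵁ U).ι = s := h1.lift_fst _ _ _
  have hs₀' : s₀ ≫ (b ∣_ U) = k ≫ t₀ := h1.lift_snd _ _ _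
  have h2 : IsPullback s₀ k (b ∣_ U) t₀ := by
    refine IsPullback.of_right ?_ hs₀' h1
    rw [hs₀, ht₀]
    exact h
  exact h2.isIso_snd_of_isIso

/-- Two modifications of an integral scheme are dominated by a third one. -/
theorem exists_dominating {X₁ X₂ Y : Scheme.{u}} [IsIntegral Y] {f₁ : X₁ ⟶ Y} {f₂ : X₂ ⟶ Y}
    (h₁ : IsModif f₁) (h₂ : IsModif f₂) :
    ∃ (X₃ : Scheme.{u}) (π₁ : X₃ ⟶ X₁) (π₂ : X₃ ⟶ X₂), π₁ ≫ f₁ = π₂ ≫ f₂ ∧ IsModif (π₁ ≫ f₁) := by
  obtain ⟨U₁, hU₁, hi₁⟩ := h₁.exists_isIso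
  obtain ⟨U₂, hU₂, hi₂⟩ := h₂.exists_isIso
  have := h₁.proper
  have := h₂.proper
  let U := U₁ ⊓ U₂
  have hU : (U : Set Y).Nonempty := nonempty_preirreducible_inter U₁.2 U₂.2 hU₁ hU₂
  have j₁ : IsIso (f₁ ∣_ U) := isIso_morphismRestrict_of_le f₁ inf_le_left
  have j₂ : IsIso (f₂ ∣_ U) := isIso_morphismRestrict_of_le f₂ inf_le_right
  let P := pullback f₁ f₂
  let p : P ⟶ Y := pullback.fst f₁ f₂ ≫ f₁
  have hfst : IsIso (pullback.fst f₁ f₂ ∣_ (f₁ ⁻¹ᵁ U)) := by
    have h1 := (isPullback_morphismRestrict (pullback.fst f₁ f₂) (f₁ ⁻¹ᵁ U)).flip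
    have h2 : IsPullback (pullback.snd f₁ f₂) (pullback.fst f₁ f₂) f₂ f₁ := (IsPullback.of_hasPullback f₁ f₂).flip
    refine isIso_of_isPullback (h1.paste_horiz h2) U ?_
    rintro _ ⟨x, rfl⟩
    exact x.2
  have hp : IsIso (p ∣_ U) := by
    rw [morphismRestrict_comp]
    exact IsIso.comp_isIso' hfst j₁
  let V := p ⁻¹ᵁ U
  have hUne : Nonempty U.toScheme := hU.to_subtype
  have hUint : IsIntegral U.toScheme := inferInstance
  have hVne : Nonempty V.toScheme := ⟨inv (p ∣_ U) (Classical.arbitrary _)⟩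
  have hV : IsIntegral V.toScheme := isIntegral_of_isOpenImmersion (p ∣_ U)
  obtain ⟨X₃, i, hi, hint, hiso, -⟩ := exists_closure V
  refine ⟨X₃, i ≫ pullback.fst f₁ f₂, i ≫ pullback.snd f₁ f₂, ?_, ?_⟩
  · rw [Category.assoc, Category.assoc, pullback.condition]
  · rw [Category.assoc]
    refine ⟨inferInstance, hint, U, hU, ?_⟩
    change IsIso ((i ≫ p) ∣_ U)
    rw [morphismRestrict_comp]
    exact IsIso.comp_isIso' hiso hp

end K376.Dominate
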