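import Groth.Agent.CycB.ImageInt
import Groth.Prelude.Def_ResolveSeq

/-!
# The closure of the graph of a rational map
-/

set_option autoImplicit false
universe u
open CategoryTheory CategoryTheory.Limits AlgebraicGeometry TopologicalSpace Opposite

namespace K376.GraphClos

/-- The closure of the graph of a rational map. -/
theorem exists_graph {S X Y : Scheme.{u}} (p : X ⟶ S) (q : Y ⟶ S) [IsProper q] [IsIntegral X] [IsNoetherian X]
    (U : X.Opens) (hU : Dense (U : Set X)) (f : (U : Scheme.{u}) ⟶ Y) (hf : f ≫ q = U.ι ≫ p) :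
    ∃ (Z : Scheme.{u}) (g : Z ⟶ X) (k : Z ⟶ Y), IsIntegral Z ∧ IsProper g ∧ (U : Set X).Nonempty ∧
      k ≫ q = g ≫ p ∧ IsIso (g ∣_ U) ∧ (g ⁻¹ᵁ U).ι ≫ k = (g ∣_ U) ≫ f := by
  have hUne : (U : Set X).Nonempty := hU.nonempty
  have hUne' : Nonempty U.toScheme := hUne.to_subtype
  have hUint : IsIntegral U.toScheme := inferInstance
  let γ : (U : Scheme.{u}) ⟶ pullback p q := pullback.lift U.ι f hf.symm
  have hγ₁ : γ ≫ pullback.fst p q = U.ι := pullback.lift_fst _ _ _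
  have hγ₂ : γ ≫ pullback.snd p q = f := pullback.lift_snd _ _ _
  have hUι : QuasiCompact U.ι := inferInstance
  have hqc : QuasiCompact γ := by
    have : QuasiCompact (γ ≫ pullback.fst p q) := by rw [hγ₁]; infer_instance
    exact MorphismProperty.of_postcomp (W := @QuasiCompact) (W' := @QuasiSeparated) γ (pullback.fst p q)
      inferInstance this
  have hint : IsIntegral γ.image := Groth.Agent.CycB.ImageInt.isIntegral_image γ
  let g : γ.image ⟶ X := γ.imageι ≫ pullback.fst p q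
  have hg : γ.toImage ≫ g = U.ι := by
    change γ.toImage ≫ γ.imageι ≫ pullback.fst p q = U.ι
    rw [Scheme.Hom.toImage_imageι_assoc, hγ₁]
  have hgp : IsProper g := inferInstance
  refine ⟨γ.image, g, γ.imageι ≫ pullback.snd p q, hint, hgp, hUne, ?_, ?_⟩
  · change (γ.imageι ≫ pullback.snd p q) ≫ q = (γ.imageι ≫ pullback.fst p q) ≫ p
    rw [Category.assoc, Category.assoc, pullback.condition]
  -- the section
  have hrange : Set.range γ.toImage ⊆ Set.range (g ⁻¹ᵁ U).ι := by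
    rw [Scheme.Opens.range_ι]
    rintro _ ⟨x, rfl⟩
    change g (γ.toImage x) ∈ U
    rw [← Scheme.Hom.comp_apply, hg]
    exact x.2
  let σ : (U : Scheme.{u}) ⟶ (g ⁻¹ᵁ U).toScheme := IsOpenImmersion.lift (g ⁻¹ᵁ U).ι γ.toImage hrange
  have hσ : σ ≫ (g ⁻¹ᵁ U).ι = γ.toImage := IsOpenImmersion.lift_fac _ _ _
  have hsec : σ ≫ (g ∣_ U) = 𝟙 _ := by
    rw [← cancel_mono U.ι, Category.assoc, morphismRestrict_ι, ← Category.assoc, hσ, hg, Category.id_comp]
  have hsep : IsSeparated (g ∣_ U) := inferInstance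
  have hcl : IsClosedImmersion σ := by
    have : IsClosedImmersion (σ ≫ (g ∣_ U)) := by rw [hsec]; infer_instance
    exact IsClosedImmersion.of_comp σ (g ∣_ U)
  have hdom : IsDominant γ.toImage := inferInstance
  have hsurj : Surjective σ := by
    have h1 : IsClosed (Set.range σ) := σ.isClosedEmbedding.isClosed_range
    have h2 : DenseRange σ := by
      intro z
      rw [mem_closure_iff]
      intro V hV hzV
      have h3 : IsOpen ((g ⁻¹ᵁ U).ι '' V) := (g ⁻¹ᵁ U).ι.isOpenEmbedding.isOpenMap _ hV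
      obtain ⟨w, hw, x, hx⟩ := (mem_closure_iff.1 (hdom.denseRange ((g ⁻¹ᵁ U).ι z))) _ h3 ⟨z, hzV, rfl⟩
      obtain ⟨v, hv, rfl⟩ := hw
      refine ⟨v, hv, x, ?_⟩
      apply (g ⁻¹ᵁ U).ι.isOpenEmbedding.injective
      rw [← Scheme.Hom.comp_apply, hσ]
      exact hx
    exact ⟨Set.range_eq_univ.1 (by rw [← h1.closure_eq]; exact h2.closure_range)⟩
  have hiso : IsIso σ := isIso_of_isClosedImmersion_of_surjective _
  have hinv : (g ∣_ U) = inv σ := by
    rw [← cancel_epi σ, hsec, IsIso.hom_inv_id]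
  refine ⟨by rw [hinv]; infer_instance, ?_⟩
  rw [hinv, IsIso.eq_inv_comp, ← Category.assoc, hσ, Scheme.Hom.toImage_imageι_assoc, hγ₂]

/-- Rational maps extend after normalized blowings up, provided birational morphisms are dominated. -/
theorem extend {S X Y : Scheme.{u}} (p : X ⟶ S) (q : Y ⟶ S) [IsProper q] [IsIntegral X] [IsNoetherian X]
    {X₀ : Scheme.{u}} (ν : X₀ ⟶ X)
    (U : X.Opens) (hU : Dense (U : Set X)) (f : (U : Scheme.{u}) ⟶ Y) (hf : f ≫ q = U.ι ≫ p)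
    (H : ∀ (Z : Scheme.{u}) [IsIntegral Z] (g : Z ⟶ X) [IsProper g],
      (∃ U : X.Opens, (U : Set X).Nonempty ∧ IsIso (g ∣_ U)) →
      ∃ (Xn : Scheme.{u}) (g' : Xn ⟶ X₀), Resolve.IsNormPtBlowupSeq g' ∧ ∃ h : Xn ⟶ Z, h ≫ g = g' ≫ ν) :
    ∃ (Xn : Scheme.{u}) (g : Xn ⟶ X₀) (fn : Xn ⟶ Y), Resolve.IsNormPtBlowupSeq g ∧
      fn ≫ q = (g ≫ ν) ≫ p ∧ ((g ≫ ν) ⁻¹ᵁ U).ι ≫ fn = ((g ≫ ν) ∣_ U) ≫ f := by
  obtain ⟨Z, g, k, hint, hp, hUne, hk, hiso, hcomp⟩ := exists_graph p q U hU f hf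
  obtain ⟨Xn, g', hg', h, hh⟩ := H Z g ⟨U, hUne, hiso⟩
  refine ⟨Xn, g', h ≫ k, hg', ?_, ?_⟩
  · rw [Category.assoc, hk, ← Category.assoc, hh]
  · -- lift to the open subsets
    have hpb : IsPullback (g ⁻¹ᵁ U).ι (g ∣_ U) g U.ι := (isPullback_morphismRestrict g U).flip
    let s : ((g' ≫ ν) ⁻¹ᵁ U).toScheme ⟶ (g ⁻¹ᵁ U).toScheme :=
      hpb.lift (((g' ≫ ν) ⁻¹ᵁ U).ι ≫ h) ((g' ≫ ν) ∣_ U) (by
        rw [Category.assoc, hh, morphismRestrict_ι])
    have hs₁ : s ≫ (g ⁻¹ᵁ U).ι = ((g' ≫ ν) ⁻¹ᵁ U).ι ≫ h := hpb.lift_fst _ _ _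
    have hs₂ : s ≫ (g ∣_ U) = (g' ≫ ν) ∣_ U := hpb.lift_snd _ _ _
    rw [← Category.assoc, ← hs₁, Category.assoc, hcomp, ← Category.assoc, hs₂]

end K376.GraphClos
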