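import Groth.Agent.Resolve.K376.TraceSol
import Mathlib.RingTheory.Invariant.Basic

/-!
# Quotients by finite groups of order a unit have rational singularities
-/

set_option autoImplicit false

universe u

open CategoryTheory AlgebraicGeometry

namespace K376.GroupInv

open Groth.Agent.CurvesC Groth.Agent.CurvesC.ValCousin Groth.Agent.CurvesC.Sol

/-- Rational singularities descend to invariants of finite groups of order a unit. -/
theorem isRationalSing_of_group (A₀ A : Type u) (G : Type u) [CommRing A₀] [CommRing A] [IsDomain A₀] [IsDomain A]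
    [IsNoetherianRing A] [IsIntegrallyClosed A] (hAN : CAlg.IsNagata A) [Algebra A₀ A]
    (hinj : Function.Injective (algebraMap A₀ A)) [Group G] [Finite G] [MulSemiringAction G A] [SMulCommClass G A₀ A]
    [Algebra.IsInvariant A₀ A G] (hG : IsUnit ((Nat.card G : ℕ) : A₀))
    (hA : ∀ (n : Ideal A) [n.IsMaximal], ringKrullDim (Localization.AtPrime n) = 2 →
      Curv2.IsRationalSing (Localization.AtPrime n))
    (m : Ideal A₀) [m.IsMaximal] (hm : ringKrullDim (Localization.AtPrime m) = 2) :
    Curv2.IsRationalSing (Localization.AtPrime m) := by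
  classical
  cases nonempty_fintype G
  let K := FractionRing A₀
  let L := FractionRing A
  have hint : Algebra.IsIntegral A₀ A := Algebra.IsInvariant.isIntegral A₀ A G
  have hf1 : FaithfulSMul A₀ A := (faithfulSMul_iff_algebraMap_injective A₀ A).2 hinj
  have hf2 : FaithfulSMul A₀ L := (faithfulSMul_iff_algebraMap_injective A₀ L).2 (by
    rw [IsScalarTower.algebraMap_eq A₀ A L]
    exact (IsFractionRing.injective A L).comp hinj)
  let : Algebra K L := FractionRing.liftAlgebra A₀ L
  have htow : IsScalarTower A₀ K L := inferInstance
  let : MulSemiringAction G L := IsFractionRing.mulSemiringAction G A L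
  have hdist : SMulDistribClass G A L := IsFractionRing.smulDistribClass G A L
  have hcomm : SMulCommClass G K L := IsFractionRing.smulCommClass G A₀ A K L
  have hinv : Algebra.IsInvariant K L G := IsFractionRing.isInvariant G A₀ A K L
  have hKL : Function.Injective (algebraMap K L) := (algebraMap K L).injective
  have hfix : ∀ (g : G) (x : K), g • algebraMap K L x = algebraMap K L x := fun g x => smul_algebraMap g x
  have hsmulA : ∀ (g : G) (a : A), g • algebraMap A L a = algebraMap A L (g • a) := by
    intro g a
    rw [Algebra.algebraMap_eq_smul_one, Algebra.algebraMap_eq_smul_one, smul_distrib_smul, smul_one]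
  have hIC : IsIntegrallyClosed A₀ := by
    rw [isIntegrallyClosed_iff K]
    intro x hx
    have h1 : IsIntegral A (algebraMap K L x) := (hx.map (IsScalarTower.toAlgHom A₀ K L)).tower_top
    obtain ⟨a, ha⟩ := (isIntegrallyClosed_iff L).1 (inferInstance : IsIntegrallyClosed A) h1
    obtain ⟨c, rfl⟩ := Algebra.IsInvariant.isInvariant (A := A₀) (G := G) a (fun g => by
      apply IsFractionRing.injective A L
      rw [← hsmulA, ha, hfix])
    refine ⟨c, hKL ?_⟩
    rw [← ha, ← IsScalarTower.algebraMap_apply, ← IsScalarTower.algebraMap_apply]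
  -- the Reynolds operator
  obtain ⟨u, hu⟩ := hG
  let w : K := algebraMap A₀ K ((u⁻¹ : A₀ˣ) : A₀)
  have hw : w * (Nat.card G : K) = 1 := by
    rw [show ((Nat.card G : ℕ) : K) = algebraMap A₀ K (u : A₀) by rw [hu, map_natCast], ← map_mul, u.inv_mul, map_one]
  have hex : ∀ z : L, ∃ k : K, algebraMap K L k = algebraMap K L w * ∑ g : G, g • z := by
    intro z
    refine Algebra.IsInvariant.isInvariant (A := K) (G := G) _ (fun g => ?_)
    rw [smul_mul', hfix, Finset.smul_sum]
    congr 1
    refine Fintype.sum_equiv (Equiv.mulLeft g) _ _ (fun h => ?_)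
    rw [smul_smul]
    rfl
  choose p hp using hex
  let P : L →+ K := AddMonoidHom.mk' p (fun x y => by
    apply hKL
    rw [map_add, hp, hp, hp, ← mul_add, ← Finset.sum_add_distrib]
    simp only [smul_add])
  have hP : ∀ z, algebraMap K L (P z) = algebraMap K L w * ∑ g : G, g • z := hp
  refine TraceSol.isRationalSing_of_proj A₀ A hAN hinj K L hA P ?_ ?_ m hm
  · intro V hV z hz
    have h1 : ∀ g : G, IsIntegral V.toSubring (g • z) := by
      intro g
      have h2 := hz.map ((MulSemiringAction.toAlgHom K L g).restrictScalars V.toSubring)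
      exact h2
    have h2 : IsIntegral V.toSubring (∑ g : G, g • z) := IsIntegral.sum _ (fun g _ => h1 g)
    have h3 : IsIntegral V.toSubring (algebraMap K L w) := by
      have : algebraMap K L w = algebraMap V.toSubring L ⟨w, hV _⟩ := rfl
      rw [this]
      exact isIntegral_algebraMap
    have h4 : IsIntegral V.toSubring (algebraMap K L (P z)) := by
      rw [hP]
      exact h3.mul h2
    rw [isIntegral_algebraMap_iff hKL] at h4
    exact Groth.Agent.MiscA.WCPlace.mem_of_isIntegral (R := V.toSubring) V (fun a => a.2) h4
  · intro x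
    apply hKL
    rw [hP]
    simp only [hfix, Finset.sum_const, Finset.card_univ]
    rw [nsmul_eq_mul, ← Nat.card_eq_fintype_card, ← map_natCast (algebraMap K L), ← mul_assoc, ← map_mul, hw, map_one,
      one_mul]

end K376.GroupInv
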