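import Groth.Agent.S0057
import Groth.Agent.S0002
import Groth.Prelude.Def_ClSub2

/-!
# Vanishing of `H^1` by formal functions
-/

set_option autoImplicit false
universe u
open CategoryTheory CategoryTheory.Limits AlgebraicGeometry TopologicalSpace Opposite

namespace K376.RatDivA

/-- If `H^1(Z, O)` is `m`-torsion and `O → O/m^n O` factors through modules with vanishing `H^1`, then
`H^1(Z, O) = 0`. -/
theorem subsingleton_of_factor (A : Type u) [CommRing A] [IsNoetherianRing A] (m : Ideal A)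
    (Z : Scheme.{u}) [Z.Over (Spec (CommRingCat.of A))] [IsProper (Z ↘ Spec (CommRingCat.of A))]
    (M : Z.Modules) (hM : Coh.IsCoh M) (p : ℕ)
    (htor : ∀ a ∈ m, ∀ x : Coh.HH Z M p, ∃ k : ℕ, a ^ k • x = 0)
    (hW : ∀ n : ℕ, ∃ (Q : Z.Modules) (σ : M ⟶ Q) (τ : Q ⟶ Formal.modPow m (n + 1) M),
      σ ≫ τ = Formal.modPowπ m (n + 1) M ∧ Subsingleton (Coh.HH Z Q p)) :
    Subsingleton (Coh.HH Z M p) := by
  have hfin : Module.Finite A (Coh.HH Z M p) := Groth.Agent.S0002.result A Z M hM p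
  -- a power of `m` kills `H^p`
  obtain ⟨N, hN⟩ : ∃ N : ℕ, m ^ N • (⊤ : Submodule A (Coh.HH Z M p)) = ⊥ := by
    have h1 : m ≤ (Module.annihilator A (Coh.HH Z M p)).radical := by
      intro a ha
      obtain ⟨s, hs⟩ := hfin.fg_top
      choose k hk using fun x : Coh.HH Z M p => htor a ha x
      refine ⟨∑ x ∈ s, k x, ?_⟩
      rw [Module.mem_annihilator]
      intro y
      have h2 : y ∈ Submodule.span A (s : Set (Coh.HH Z M p)) := by rw [hs]; trivial
      refine Submodule.span_induction (p := fun y _ => a ^ (∑ x ∈ s, k x) • y = 0) ?_ ?_ ?_ ?_ h2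
      · intro x hx
        obtain ⟨j, hj⟩ := Nat.exists_eq_add_of_le (Finset.single_le_sum (f := k) (fun _ _ => Nat.zero_le _) hx)
        rw [hj, add_comm, pow_add, mul_smul, hk, smul_zero]
      · rw [smul_zero]
      · intro x y _ _ hx hy
        rw [smul_add, hx, hy, add_zero]
      · intro c x _ hx
        rw [smul_comm, hx, smul_zero]
    obtain ⟨N, hN⟩ := Ideal.exists_pow_le_of_le_radical_of_fg h1 (IsNoetherian.noetherian m)
    refine ⟨N, ?_⟩
    rw [eq_bot_iff, Submodule.smul_le]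
    intro a ha x _
    exact (Module.mem_annihilator.1 (hN ha) x)
  obtain ⟨c, hc⟩ := Groth.Agent.S0057.result A m Z M hM p
  have hzero : ∀ (n : ℕ) (x : Coh.HH Z M p), Formal.toHHmodPow m M p n x = 0 := by
    intro n x
    obtain ⟨Q, σ, τ, h1, h2⟩ := hW n
    change Sheaf.H.map ((SheafOfModules.toSheaf _).map (Formal.modPowπ m (n + 1) M)) p x = 0
    rw [← h1]
    refine (Formal.HHmap_comp σ τ p x).symm.trans ?_
    have h3 : Sheaf.H.map ((SheafOfModules.toSheaf _).map σ) p x = 0 := h2.elim _ _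
    rw [h3, map_zero]
  have hall : ∀ x : Coh.HH Z M p, x = 0 := by
    intro x
    have h1 : x ∈ ((m ^ (c + N - c) • (⊤ : Submodule A (Coh.HH Z M p)) : Submodule A (Coh.HH Z M p)) :
        Set (Coh.HH Z M p)) := hc (c + N) (Nat.le_add_right _ _) (hzero _ x)
    rw [Nat.add_sub_cancel_left, hN] at h1
    exact h1
  exact ⟨fun x y => (hall x).trans (hall y).symm⟩

end K376.RatDivA
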