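import Groth.Agent.Resolve.K376.RatDivC
import Groth.Agent.Gaga.H883.SerreRel
import Groth.Agent.CohqA.ChevMain
import Groth.Agent.Surf.K463.MinModel

/-!
# `R^1 f_* O = 0` and `H^1` of the closed subschemes supported in a fibre
-/

set_option autoImplicit false
universe u
open CategoryTheory CategoryTheory.Limits AlgebraicGeometry TopologicalSpace Opposite

namespace K376.RatDivD

open Groth.Agent K376.RatDivC

section Forward

variable {X Y : Scheme.{u}} [IsLocallyNoetherian X] (f : Y ⟶ X) [IsProper f]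
  (hdim : ∀ x : X, topologicalKrullDim (f.fiber x) ≤ ((1 : ℕ) : WithBot ℕ∞))

include hdim in
theorem subsingleton_two (V : X.Opens) (hV : IsAffineOpen V) (M : (f ⁻¹ᵁ V).toScheme.Modules) (hM : Coh.IsCoh M) :
    Subsingleton (Coh.HH (f ⁻¹ᵁ V).toScheme M 2) := by
  have : IsAffine V.toScheme := hV
  exact Flat2G.NoethVanish.subsingleton_HH_coh (f ∣_ V) 1
    (fun y => (dim_fiber_restrict f V y).trans (hdim _)) M hM 2 (by omega)

include hdim in
theorem forward (h : IsZero ((Coh.RpushAb f 1).obj (Coh.toAb (Coh.structureModule Y))))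
    (V : X.Opens) (hV : IsAffineOpen V) {W : Scheme.{u}} (i : W ⟶ Y) [IsClosedImmersion i]
    (hi : ∀ w, f (i w) ∈ V) : Subsingleton (Coh.HH Y ((Scheme.Modules.pushforward i).obj (Coh.structureModule W)) 1) := by
  have : IsLocallyNoetherian Y := LocallyOfFiniteType.isLocallyNoetherian f
  refine Dix.Cast1.subsingleton_HH_push i _ 1 ?_
  obtain ⟨i', hi', -⟩ := exists_lift i (f ⁻¹ᵁ V) hi
  have h1 : Subsingleton (Coh.HHon Y (Coh.structureModule Y) (f ⁻¹ᵁ V) 1) :=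
    Gaga.H883.SerreRel.subsingleton_HHon_of_isZero f _ (CurvesB.UnitCoh.isCoh_structureModule Y).1 1 h V hV
  have h2 : Subsingleton (Coh.HH (f ⁻¹ᵁ V).toScheme (Coh.structureModule (f ⁻¹ᵁ V).toScheme) 1) :=
    CohqA.ChevMain.subsingleton_HH_of_iso (Dcoh.LocalD.structureRestrict (f ⁻¹ᵁ V).ι) 1 h1
  exact subsingleton_closed i' 1 h2 fun M hM => subsingleton_two f hdim V hV M hM

end Forward

section Backward

/-- Over the locus where `f` is an isomorphism, preimages of affine opens are affine. -/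
theorem isAffineOpen_preimage {X Y : Scheme.{u}} (f : Y ⟶ X) {U V : X.Opens} (h : V ≤ U) (hU : IsIso (f ∣_ U))
    (hV : IsAffineOpen V) : IsAffineOpen (f ⁻¹ᵁ V) := by
  have h1 : IsIso (f ∣_ V) := K463.MinModel.isIso_restrict_of_le f h hU
  have : IsAffine V.toScheme := hV
  exact IsAffine.of_isIso (f ∣_ V)

theorem app_comp_ι {W Y : Scheme.{u}} (U : Y.Opens) (i : W ⟶ U.toScheme) (j : W ⟶ Y)
    (hi : i ≫ U.ι = j) (V : U.toScheme.Opens) (t : Γ(Y, U.ι ''ᵁ V))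
    (ht : (i.app V).hom (t : Γ(U.toScheme, V)) = 0) : (j.app (U.ι ''ᵁ V)).hom t = 0 := by
  subst hi
  have e : U.ι ⁻¹ᵁ (U.ι ''ᵁ V) = V := U.ι.preimage_image_eq V
  rw [Scheme.Hom.comp_app]
  have h2 : (U.ι.app (U.ι ''ᵁ V)).hom t =
      (U.toScheme.presheaf.map (homOfLE e.le).op).hom (t : Γ(U.toScheme, V)) := by
    rw [Scheme.Opens.ι_app]
    rfl
  change (i.app (U.ι ⁻¹ᵁ (U.ι ''ᵁ V))).hom ((U.ι.app (U.ι ''ᵁ V)).hom t) = 0
  rw [h2]
  have h3 := i.naturality (homOfLE e.le).op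
  have h4 := congrArg (fun φ => φ.hom (t : Γ(U.toScheme, V))) h3
  refine h4.trans ?_
  change (W.presheaf.map _).hom ((i.app V).hom (t : Γ(U.toScheme, V))) = 0
  rw [ht, map_zero]

/-- The kernel on sections of a closed immersion `W ⟶ U` factoring `W_I ⟶ Y`. -/
theorem mem_ideal_of_ker {Y : Scheme.{u}} (I : Y.IdealSheafData) (U : Y.Opens) (i : I.subscheme ⟶ U.toScheme)
    (hi : i ≫ U.ι = I.subschemeι) (V : U.toScheme.Opens) (hV : IsAffineOpen (U.ι ''ᵁ V)) (t : Γ(Y, U.ι ''ᵁ V))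
    (ht : (i.app V).hom (t : Γ(U.toScheme, V)) = 0) : t ∈ I.ideal ⟨U.ι ''ᵁ V, hV⟩ := by
  rw [← I.ker_subschemeι_app ⟨U.ι ''ᵁ V, hV⟩, RingHom.mem_ker]
  exact app_comp_ι U i _ hi V t ht

theorem mem_radical {A : Type u} [CommRing A] (m : Ideal A) [hm : m.IsMaximal] {Z : Scheme.{u}}
    [Z.Over (Spec (CommRingCat.of A))] (U : Z.Opens) (hU : IsAffineOpen U) (n : ℕ) (s : Γ(Z, U))
    (hs : ∀ z ∈ Z.basicOpen s, ((Z ↘ Spec (CommRingCat.of A)) z).asIdeal ≠ m) :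
    s ∈ ((m ^ n).map (RatDivB.sc (A := A) U)).radical := by
  rw [Ideal.radical_eq_sInf, Submodule.mem_sInf]
  rintro q ⟨hKq, hq⟩
  by_contra hsq
  let q' : Spec Γ(Z, U) := (⟨q, hq⟩ : PrimeSpectrum Γ(Z, U))
  let y : Z := hU.fromSpec q'
  have key : ∀ t : Γ(Z, U), y ∈ Z.basicOpen t ↔ t ∉ q := by
    intro t
    have h : q' ∈ hU.fromSpec ⁻¹ᵁ Z.basicOpen t ↔ q' ∈ (PrimeSpectrum.basicOpen t : (Spec Γ(Z, U)).Opens) := by
      rw [hU.fromSpec_preimage_basicOpen]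
      exact Iff.rfl
    exact h
  have h1 := hs y ((key s).2 hsq)
  obtain ⟨a, ha, hay⟩ : ∃ a ∈ m, a ∉ ((Z ↘ Spec (CommRingCat.of A)) y).asIdeal := by
    by_contra h
    push Not at h
    exact h1 (hm.eq_of_le ((Z ↘ Spec (CommRingCat.of A)) y).2.ne_top h).symm
  have h2 : y ∈ Z.basicOpen (Coh.toGlobal (Z ↘ Spec (CommRingCat.of A)) a) := by
    rw [basicOpen_toGlobal]; exact hay
  have hyU : y ∈ U := Z.basicOpen_le s ((key s).2 hsq)
  have h3 : y ∈ Z.basicOpen (RatDivB.sc (A := A) U a) := by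
    have h4 := Scheme.basicOpen_res Z (Coh.toGlobal (Z ↘ Spec (CommRingCat.of A)) a) (homOfLE (le_top : U ≤ ⊤)).op
    have h5 : y ∈ U ⊓ Z.basicOpen (Coh.toGlobal (Z ↘ Spec (CommRingCat.of A)) a) := ⟨hyU, h2⟩
    rw [← h4] at h5
    exact h5
  apply (key _).1 h3
  refine hq.mem_of_pow_mem n (hKq ?_)
  rw [← map_pow]
  exact Ideal.mem_map_of_mem _ (Ideal.pow_mem_pow ha n)

theorem mem_basicOpen_image {Y : Scheme.{u}} (U₀ : Y.Opens) (U : U₀.toScheme.Opens) (s : Γ(Y, U₀.ι ''ᵁ U))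
    (z : U₀.toScheme) (hz : z ∈ U₀.toScheme.basicOpen (s : Γ(U₀.toScheme, U))) :
    U₀.ι z ∈ Y.basicOpen s := by
  have h1 := Scheme.image_basicOpen U₀.ι (U := U) (s : Γ(U₀.toScheme, U))
  rw [Scheme.Opens.ι_appIso] at h1
  have h2 : U₀.ι z ∈ U₀.ι ''ᵁ (U₀.toScheme.basicOpen (s : Γ(U₀.toScheme, U))) := ⟨z, hz, rfl⟩
  rw [h1] at h2
  exact h2

theorem exists_pow {A : Type u} [CommRing A] (m : Ideal A) [hm : m.IsMaximal] {Y : Scheme.{u}}
    [IsLocallyNoetherian Y] (U₀ : Y.Opens) [U₀.toScheme.Over (Spec (CommRingCat.of A))] (E : Y.IdealSheafData)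
    (hE : ∀ z : U₀.toScheme, ((U₀.toScheme ↘ Spec (CommRingCat.of A)) z).asIdeal = m → U₀.ι z ∈ E.support)
    (n : ℕ) (U : U₀.toScheme.Opens) (hU : IsAffineOpen U) :
    ∃ s₀ : ℕ, ∀ s ≥ s₀, ∀ (i : (E ^ s).subscheme ⟶ U₀.toScheme) (_ : i ≫ U₀.ι = (E ^ s).subschemeι)
      (V : U₀.toScheme.Opens) (_ : V ≤ U) (_ : IsAffineOpen V),
      RingHom.ker (i.app V).hom ≤ (m ^ n).map (RatDivB.sc (A := A) V) := by
  let W : Y.affineOpens := ⟨U₀.ι ''ᵁ U, hU.image_of_isOpenImmersion _⟩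
  have hN : IsNoetherianRing Γ(Y, W.1) := IsLocallyNoetherian.component_noetherian W
  have h1 : (E.ideal W : Ideal Γ(Y, W.1)) ≤
      (((m ^ n).map (RatDivB.sc (A := A) U) : Ideal Γ(U₀.toScheme, U)) : Ideal Γ(Y, W.1)).radical := by
    intro s hs
    refine mem_radical m U hU n s fun z hz hzm => ?_
    have h2 := mem_basicOpen_image U₀ U s z hz
    have h3 : U₀.ι z ∈ W.1 := Y.basicOpen_le _ h2
    have h4 := (Scheme.IdealSheafData.mem_support_iff_of_mem h3).1 (hE z hzm)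
    rw [Scheme.mem_zeroLocus_iff] at h4
    exact h4 s hs h2
  obtain ⟨s₀, hs₀⟩ := Ideal.exists_pow_le_of_le_radical_of_fg h1 (IsNoetherian.noetherian _)
  refine ⟨s₀, fun s hs i hi V hVU hV => ?_⟩
  intro t ht
  have h5 := mem_ideal_of_ker (E ^ s) U₀ i hi V (hV.image_of_isOpenImmersion _) t ht
  let V' : Y.affineOpens := ⟨U₀.ι ''ᵁ V, hV.image_of_isOpenImmersion _⟩
  have hVW : V' ≤ W := U₀.ι.image_mono hVU
  have h6 := (E ^ s).map_ideal hVW
  have h5' : t ∈ ((E ^ s).ideal W).map (Y.presheaf.map (homOfLE hVW).op).hom := by rw [h6]; exact h5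
  have h7 : ((E ^ s).ideal W) ≤ (((m ^ n).map (RatDivB.sc (A := A) U) : Ideal Γ(U₀.toScheme, U)) : Ideal Γ(Y, W.1)) := by
    rw [Scheme.IdealSheafData.ideal_pow, Pi.pow_apply]
    exact (Ideal.pow_le_pow_right hs).trans hs₀
  have h8 := Ideal.map_mono (f := (Y.presheaf.map (homOfLE hVW).op).hom) h7 h5'
  have h9 : ((m ^ n).map (RatDivB.sc (A := A) U)).map (U₀.toScheme.presheaf.map (homOfLE hVU).op).hom =
      (m ^ n).map (RatDivB.sc (A := A) V) := by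
    rw [Ideal.map_map]
    congr 1
    ext a
    exact RatDivB.sc_res hVU a
  rw [← h9]
  exact h8

theorem exists_pow_cover {A : Type u} [CommRing A] (m : Ideal A) [hm : m.IsMaximal] {Y : Scheme.{u}}
    [IsLocallyNoetherian Y] (U₀ : Y.Opens) [CompactSpace U₀.toScheme] [U₀.toScheme.Over (Spec (CommRingCat.of A))]
    (E : Y.IdealSheafData)
    (hE : ∀ z : U₀.toScheme, ((U₀.toScheme ↘ Spec (CommRingCat.of A)) z).asIdeal = m → U₀.ι z ∈ E.support)
    (n : ℕ) : ∃ s : ℕ, 0 < s ∧ ∀ (i : (E ^ s).subscheme ⟶ U₀.toScheme) (_ : i ≫ U₀.ι = (E ^ s).subschemeι)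
      (z : U₀.toScheme), ∃ U : U₀.toScheme.Opens, z ∈ U ∧ ∀ V : U₀.toScheme.Opens, V ≤ U → IsAffineOpen V →
      RingHom.ker (i.app V).hom ≤ (m ^ n).map (RatDivB.sc (A := A) V) := by
  have h1 : ∀ z : U₀.toScheme, ∃ U : U₀.toScheme.Opens, IsAffineOpen U ∧ z ∈ U := fun z => by
    obtain ⟨U, hU, hz, -⟩ := exists_isAffineOpen_mem_and_subset (X := U₀.toScheme) (U := ⊤) (x := z) trivial
    exact ⟨U, hU, hz⟩
  choose U hU hz using h1
  choose s hs using fun z => exists_pow m U₀ E hE n (U z) (hU z)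
  obtain ⟨t, ht⟩ := CompactSpace.elim_nhds_subcover (fun z => (U z : Set U₀.toScheme))
    (fun z => (U z).isOpen.mem_nhds (hz z))
  refine ⟨t.sup s + 1, Nat.succ_pos _, fun i hi z => ?_⟩
  have h2 : z ∈ ⋃ x ∈ t, (U x : Set U₀.toScheme) := by
    have h3 : z ∈ (⊤ : Set U₀.toScheme) := trivial
    rw [← ht] at h3
    exact h3
  simp only [Set.mem_iUnion, exists_prop] at h2
  obtain ⟨x, hx, hzx⟩ := h2
  exact ⟨U x, hzx, fun V hVU hV => hs x _ ((Finset.le_sup hx).trans (Nat.le_succ _)) i hi V hVU hV⟩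

theorem backward {X Y : Scheme.{u}} [IsLocallyNoetherian X] (f : Y ⟶ X) [IsProper f] (P : X)
    (hPc : IsClosed ({P} : Set X))
    (hiso : IsIso (f ∣_ ⟨({P} : Set X)ᶜ, hPc.isOpen_compl⟩)) (E : Y.IdealSheafData)
    (hE : (E.support : Set Y) = f.base ⁻¹' {P})
    (hH : ∀ s : ℕ, 0 < s → Subsingleton (Coh.HH Y (ClSub.quotMod (E ^ s)) 1)) (V : X.Opens)
    (hV : IsAffineOpen V) (hPV : P ∈ V) :
    Subsingleton (Coh.HH (f ⁻¹ᵁ V).toScheme (Coh.structureModule (f ⁻¹ᵁ V).toScheme) 1) := by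
  have hYN : IsLocallyNoetherian Y := LocallyOfFiniteType.isLocallyNoetherian f
  have hAN : IsNoetherianRing Γ(X, V) := IsLocallyNoetherian.component_noetherian ⟨V, hV⟩
  have : IsAffine V.toScheme := hV
  let π : (f ⁻¹ᵁ V).toScheme ⟶ Spec (CommRingCat.of Γ(X, V)) := (f ∣_ V) ≫ hV.isoSpec.hom
  have hπ : IsProper π := inferInstance
  letI : (f ⁻¹ᵁ V).toScheme.Over (Spec (CommRingCat.of Γ(X, V))) := ⟨π⟩
  have hπ' : IsProper ((f ⁻¹ᵁ V).toScheme ↘ Spec (CommRingCat.of Γ(X, V))) := hπ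
  have : CompactSpace (f ⁻¹ᵁ V).toScheme := QuasiCompact.compactSpace_of_compactSpace π
  let p₀ : V.toScheme := ⟨P, hPV⟩
  let P' : Spec (CommRingCat.of Γ(X, V)) := hV.isoSpec.hom p₀
  let m : Ideal Γ(X, V) := P'.asIdeal
  have hP'c : IsClosed ({P'} : Set (Spec (CommRingCat.of Γ(X, V)))) := by
    have h1 : IsClosed ({p₀} : Set V.toScheme) := by
      have h2 : ({p₀} : Set V.toScheme) = V.ι ⁻¹' {P} := by
        ext v
        constructor
        · rintro rfl; rfl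
        · intro h; exact Subtype.ext h
      rw [h2]
      exact hPc.preimage V.ι.continuous
    have h3 := (hV.isoSpec.hom.homeomorph.isClosedMap _ h1)
    rw [Set.image_singleton] at h3
    exact h3
  have hm : m.IsMaximal := (PrimeSpectrum.isClosed_singleton_iff_isMaximal (R := Γ(X, V)) P').1 hP'c
  have e : ∀ c : (f ⁻¹ᵁ V : Scheme.{u}), V.ι ((f ∣_ V) c) = f ((f ⁻¹ᵁ V).ι c) := fun c => by
    rw [← Scheme.Hom.comp_apply, ← Scheme.Hom.comp_apply, morphismRestrict_ι]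
  refine RatDivA.subsingleton_of_factor Γ(X, V) m (f ⁻¹ᵁ V).toScheme _
    (CurvesB.UnitCoh.isCoh_structureModule _) 1 ?_ ?_
  · intro a ha x
    refine exists_pow_smul _ (CurvesB.UnitCoh.isCoh_structureModule _).1 a 1 one_pos ?_ x
    let V₁ : V.toScheme.Opens := hV.isoSpec.hom ⁻¹ᵁ (PrimeSpectrum.basicOpen a)
    have hV₁ : IsAffineOpen V₁ := (IsAffineOpen.Spec_basicOpen (R := CommRingCat.of Γ(X, V)) a).preimage_of_isIso _
    have h1 : IsAffineOpen (V.ι ''ᵁ V₁) := hV₁.image_of_isOpenImmersion _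
    have h2 : V.ι ''ᵁ V₁ ≤ (⟨({P} : Set X)ᶜ, hPc.isOpen_compl⟩ : X.Opens) := by
      rintro _ ⟨v, hv, rfl⟩ hvP
      have h3 : v = p₀ := Subtype.ext hvP
      subst h3
      exact hv ha
    have h3 := isAffineOpen_preimage f h2 hiso h1
    rw [← image_morphismRestrict_preimage] at h3
    exact ((f ⁻¹ᵁ V).ι.isAffineOpen_iff_of_isOpenImmersion).1 h3
  · intro n
    have hE' : ∀ z : (f ⁻¹ᵁ V).toScheme, (((f ⁻¹ᵁ V).toScheme ↘ Spec (CommRingCat.of Γ(X, V))) z).asIdeal = m →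
        (f ⁻¹ᵁ V).ι z ∈ E.support := by
      intro z hz
      have h1 : hV.isoSpec.hom ((f ∣_ V) z) = hV.isoSpec.hom p₀ := PrimeSpectrum.ext hz
      have h2 : (f ∣_ V) z = p₀ := hV.isoSpec.hom.homeomorph.injective h1
      have h3 : f ((f ⁻¹ᵁ V).ι z) = P := by
        rw [← e, h2]
        rfl
      have h4 : (f ⁻¹ᵁ V).ι z ∈ (E.support : Set Y) := by rw [hE]; exact h3
      exact h4
    obtain ⟨s, hs0, hs⟩ := exists_pow_cover m (f ⁻¹ᵁ V) E hE' (n + 1)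
    have hsupp : ∀ w : (E ^ s).subscheme, (E ^ s).subschemeι w ∈ f ⁻¹ᵁ V := by
      intro w
      have h1 : (E ^ s).subschemeι w ∈ (E.support : Set Y) := by
        rw [← Scheme.IdealSheafData.support_pow E s hs0.ne', ← Scheme.IdealSheafData.range_subschemeι]
        exact ⟨w, rfl⟩
      rw [hE] at h1
      have h2 : f ((E ^ s).subschemeι w) = P := h1
      change f ((E ^ s).subschemeι w) ∈ V
      rw [h2]
      exact hPV
    obtain ⟨i, hi, hi'⟩ := exists_lift (E ^ s).subschemeι (f ⁻¹ᵁ V) hsupp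
    obtain ⟨τ, hτ⟩ := RatDivB.exists_factor (A := Γ(X, V)) (m ^ (n + 1)) i (hs i hi')
    refine ⟨_, ClSub.unitToPush i, τ, hτ, ?_⟩
    refine Dix.Cast1.subsingleton_HH_push i _ 1 ?_
    exact Sga2lef.H24.ToPn.subsingleton_HH_of_pushforward (E ^ s).subschemeι _ 1 (hH s hs0)

end Backward

end K376.RatDivD
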