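import Groth.Agent.Resolve.K376.DesFib
import Groth.Agent.S1700
import Groth.Agent.S0814
import Groth.Agent.Ega1.ReducedSub
import Groth.Agent.Models2.CodimStalk
import Groth.Agent.S2821

/-!
# The exceptional fibre of a resolution of a surface is a Cartier divisor
-/

set_option autoImplicit false
universe u
open CategoryTheory CategoryTheory.Limits AlgebraicGeometry TopologicalSpace Opposite

namespace K376.RatDivE

open Groth.Agent

theorem eq_of_reduced {Z : Scheme.{u}} [IsReduced Z] [IsLocallyNoetherian Z] (z : Z)
    (h : IsAssociatedPrime (IsLocalRing.maximalIdeal (Z.presheaf.stalk z)) (Z.presheaf.stalk z)) (z' : Z)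
    (hz : z' ⤳ z) : z' = z := by
  have h1 : nilradical (Z.presheaf.stalk z) = ⊥ := nilradical_eq_zero _
  have h2 : IsLocalRing.maximalIdeal (Z.presheaf.stalk z) ∈
      associatedPrimes (Z.presheaf.stalk z) (Z.presheaf.stalk z ⧸ nilradical (Z.presheaf.stalk z)) := by
    rw [h1]
    exact (LinearEquiv.isAssociatedPrime_iff
      (Submodule.quotEquivOfEqBot (⊥ : Submodule (Z.presheaf.stalk z) (Z.presheaf.stalk z)) rfl)).2 h
  have h3 := Groth.Agent.S0814.mem_minimalPrimes_of_mem_associatedPrimes _ h2
  have h4 : ringKrullDim (Z.presheaf.stalk z) = 0 := by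
    rw [← ringKrullDimZero_iff_ringKrullDim_eq_zero, Ring.krullDimLE_zero_iff]
    intro I hI
    have h5 : I = IsLocalRing.maximalIdeal (Z.presheaf.stalk z) :=
      le_antisymm (IsLocalRing.le_maximalIdeal hI.ne_top)
        (h3.2 ⟨hI, bot_le⟩ (IsLocalRing.le_maximalIdeal hI.ne_top))
    rw [h5]
    infer_instance
  by_contra hne
  have h5 := Models2.CodimStalk.codim_lt Z hz (fun h => hne (hz.antisymm h).eq)
  have h6 := Models2.CodimStalk.coe_codim Z z
  rw [h4] at h6
  have h7 : Models2.CodimStalk.codim Z z = 0 := by exact_mod_cast h6.symm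
  omega

/-- The generic points of a fibre with all components of dimension one have codimension one. -/
theorem codim_eq_one {Y : Scheme.{u}} [IsIntegral Y] [IsLocallyNoetherian Y] (hdimY : topologicalKrullDim Y = 2)
    (F : Set Y) (hF : IsClosed F) (hne : F ≠ Set.univ)
    (hdim : ∀ Z ∈ irreducibleComponents ↥F, topologicalKrullDim ↥Z = 1) (y : Y) (hy : y ∈ F)
    (hmax : ∀ y' ∈ F, y' ⤳ y → y' = y) : Models2.CodimStalk.codim Y y = 1 := by
  apply le_antisymm
  · -- a component containing `y`
    let y₀ : F := ⟨y, hy⟩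
    have hsob : QuasiSober F := hF.isClosedEmbedding_subtypeVal.quasiSober
    let Z := irreducibleComponent y₀
    have hZ : Z ∈ irreducibleComponents F := irreducibleComponent_mem_irreducibleComponents y₀
    obtain ⟨ξ, hξ⟩ := QuasiSober.sober (isIrreducible_irreducibleComponent (x := y₀)) isClosed_irreducibleComponent
    have h1 : ξ ⤳ y₀ := hξ.specializes mem_irreducibleComponent
    have h2 : ξ = y₀ := Subtype.ext (hmax ξ.1 ξ.2 (h1.map continuous_subtype_val))
    have h3 : topologicalKrullDim Z = 1 := hdim Z hZ
    -- there is another point in `Z`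
    obtain ⟨w, hw, hwy⟩ : ∃ w ∈ Z, w ≠ y₀ := by
      by_contra hcon
      push Not at hcon
      have : Subsingleton Z := ⟨fun a b => Subtype.ext ((hcon a.1 a.2).trans (hcon b.1 b.2).symm)⟩
      have : Nonempty Z := ⟨⟨y₀, mem_irreducibleComponent⟩⟩
      have h4 : topologicalKrullDim Z ≤ 0 := topologicalKrullDim_zero_of_discreteTopology _
      rw [h3] at h4
      exact absurd h4 (by decide)
    have h5 : y ⤳ w.1 := by
      rw [h2] at hξ
      exact (hξ.specializes hw).map continuous_subtype_val
    have h6 : ¬ w.1 ⤳ y := fun h => hwy (Subtype.ext (hmax w.1 w.2 h))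
    have h7 := Models2.CodimStalk.codim_lt Y h5 h6
    have h8 := Models2.CodimStalk.codim_le Y (d := 2) hdimY w.1
    omega
  · have h1 : genericPoint Y ⤳ y := genericPoint_specializes y
    have h2 : ¬ y ⤳ genericPoint Y := by
      intro h
      have h3 : genericPoint Y ∈ F := h.mem_closed hF hy
      apply hne
      rw [Set.eq_univ_iff_forall]
      intro z
      exact (genericPoint_specializes z).mem_closed hF h3
    have h3 := Models2.CodimStalk.codim_lt Y h1 h2
    omega

theorem isEff {Y : Scheme.{u}} [IsIntegral Y] [IsNoetherian Y]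
    (hdimY : topologicalKrullDim Y = 2) (hregY : ∀ y : Y, IsRegularLocalRing (Y.presheaf.stalk y))
    (F : Closeds Y) (hne : (F : Set Y) ≠ Set.univ)
    (hdim : ∀ Z ∈ irreducibleComponents ↥(F : Set Y), topologicalKrullDim ↥Z = 1) :
    BlowUp.IsEffCartierIdeal (Scheme.IdealSheafData.vanishingIdeal F) := by
  have hred := Ega1.ReducedSub.isReduced_subscheme_vanishingIdeal F
  have hran : Set.range (Scheme.IdealSheafData.vanishingIdeal F).subschemeι = F := by
    rw [Scheme.IdealSheafData.range_subschemeι]
    simp
  have hln : IsLocallyNoetherian (Scheme.IdealSheafData.vanishingIdeal F).subscheme :=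
    LocallyOfFiniteType.isLocallyNoetherian (Scheme.IdealSheafData.vanishingIdeal F).subschemeι
  refine Groth.Agent.S1700.result Y _ ?_ ?_ ?_
  · intro z hz z' hz'
    exact eq_of_reduced z hz z' hz'
  · intro z hz
    have h1 : (Scheme.IdealSheafData.vanishingIdeal F).subschemeι z ∈ (F : Set Y) := by
      rw [← hran]; exact ⟨z, rfl⟩
    have h2 := codim_eq_one hdimY F F.isClosed hne hdim _ h1 (by
      intro y' hy' hs
      rw [← hran] at hy'
      obtain ⟨z', rfl⟩ := hy'
      rw [hz z' ((Topology.IsInducing.specializes_iff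
        (Scheme.IdealSheafData.vanishingIdeal F).subschemeι.isClosedEmbedding.isInducing).1 hs)])
    rw [Models2.CodimStalk.coe_codim, h2]
    rfl
  · intro x _
    have := hregY x
    exact Groth.Agent.S2821.result _

end K376.RatDivE
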