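import Groth.Agent.Resolve.K376.SprStalk
import Groth.Agent.Resolve.K373.NormFin
import Groth.Agent.S0571
import Groth.Agent.S9391
import Groth.Agent.CAlg.K72.NagLocal
import Groth.Agent.CurvesB.N1OfNormal

/-!
# Finiteness of the normalization: descent along a flat preimmersion which covers the non-normal points
-/

set_option autoImplicit false
universe u
open CategoryTheory CategoryTheory.Limits AlgebraicGeometry TopologicalSpace Opposite

namespace K376.SprN1

open Groth.Agent SprStalk

theorem isIntegrallyClosed_of_isAffineOpen {X : Scheme.{u}} [IsIntegral X]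
    {V : X.Opens} (hX : ∀ x ∈ V, IsIntegrallyClosed (X.presheaf.stalk x)) (hV : IsAffineOpen V) (hne : Nonempty V) :
    IsIntegrallyClosed Γ(X, V) := by
  have : IsDomain Γ(X, V) := inferInstance
  refine IsIntegrallyClosed.of_localization_maximal fun p _ hp => ?_
  let y : PrimeSpectrum Γ(X, V) := ⟨p, hp.isPrime⟩
  have hy : hV.fromSpec y ∈ V := (hV.isoSpec.inv y).2
  let _ : Algebra Γ(X, V) (X.presheaf.stalk (hV.fromSpec y)) :=
    TopCat.Presheaf.algebra_section_stalk X.presheaf ⟨hV.fromSpec y, hy⟩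
  have h1 : IsLocalization.AtPrime (X.presheaf.stalk (hV.fromSpec y)) p :=
    hV.isLocalization_stalk' y hy
  have h2 : IsIntegrallyClosed (X.presheaf.stalk (hV.fromSpec y)) := hX _ hy
  exact IsIntegrallyClosed.of_equiv
    (IsLocalization.algEquiv p.primeCompl (X.presheaf.stalk (hV.fromSpec y)) (Localization.AtPrime p)).toRingEquiv

theorem isN1_of_normal (A : Type u) [CommRing A] [IsDomain A] [IsNoetherianRing A] [IsIntegrallyClosed A] :
    CAlg.IsN1 A :=
  CurvesB.N1OfNormal.isN1_of_finite_integrallyClosed A A Function.injective_id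

theorem isN1_stalk {X : Scheme.{u}} [IsIntegral X]
    [QuasiCompact (X.fromSpecStalk (genericPoint X))] [QuasiSeparated (X.fromSpecStalk (genericPoint X))]
    (h : IsFinite (Curv2.normalizationι X)) (x : X) : CAlg.IsN1 (X.presheaf.stalk x) := by
  obtain ⟨U, hU, hxU, -⟩ := exists_isAffineOpen_mem_and_subset (X := X) (x := x) (U := ⊤) trivial
  have hne : Nonempty U := ⟨⟨x, hxU⟩⟩
  have h1 := K373.NormFin.isN1_of_isFinite X h U hU hne
  let _ : Algebra Γ(X, U) (X.presheaf.stalk x) := TopCat.Presheaf.algebra_section_stalk X.presheaf ⟨x, hxU⟩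
  have h2 := hU.isLocalization_stalk ⟨x, hxU⟩
  exact Groth.Agent.S9391.result Γ(X, U) (hU.primeIdealOf ⟨x, hxU⟩).asIdeal.primeCompl (X.presheaf.stalk x) h1

theorem isFinite_of_cover {X Z : Scheme.{u}} [IsIntegral X] [IsLocallyNoetherian X] [IsIntegral Z]
    [QuasiCompact (Z.fromSpecStalk (genericPoint Z))] [QuasiSeparated (Z.fromSpecStalk (genericPoint Z))]
    [QuasiCompact (X.fromSpecStalk (genericPoint X))] [QuasiSeparated (X.fromSpecStalk (genericPoint X))]
    (V : X.Opens) (hVne : (V : Set X).Nonempty) (hV : ∀ x ∈ V, IsIntegrallyClosed (X.presheaf.stalk x))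
    (q : Z ⟶ X) [Flat q] [IsPreimmersion q] (hq : ∀ x, x ∉ V → ∃ z, q z = x)
    (hfin : IsFinite (Curv2.normalizationι Z)) : IsFinite (Curv2.normalizationι X) := by
  refine K373.NormFin.isFinite_of_isN1 X fun U hU hne => ?_
  have hN : IsNoetherianRing Γ(X, U) := IsLocallyNoetherian.component_noetherian ⟨U, hU⟩
  have hgU : genericPoint X ∈ U := by
    obtain ⟨⟨x, hx⟩⟩ := hne
    exact ((genericPoint_spec X).specializes (Set.mem_univ x)).mem_open U.2 hx
  have hgV : genericPoint X ∈ V := by
    obtain ⟨x, hx⟩ := hVne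
    exact ((genericPoint_spec X).specializes (Set.mem_univ x)).mem_open V.2 hx
  rw [Groth.Agent.S0571.result]
  constructor
  · obtain ⟨f, hf1, hf2⟩ := hU.exists_basicOpen_le (V := V) ⟨genericPoint X, hgV⟩ hgU
    have hfne : Nonempty (X.basicOpen f) := ⟨⟨_, hf2⟩⟩
    have h1 : IsIntegrallyClosed Γ(X, X.basicOpen f) :=
      isIntegrallyClosed_of_isAffineOpen (fun x hx => hV x (hf1 hx)) (hU.basicOpen f) hfne
    refine ⟨f, ?_, ?_⟩
    · rintro rfl
      rw [Scheme.basicOpen_zero] at hf2
      exact hf2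
    · have hloc := hU.isLocalization_basicOpen f
      exact IsIntegrallyClosed.of_equiv
        (IsLocalization.algEquiv (Submonoid.powers f) Γ(X, X.basicOpen f) (Localization.Away f)).toRingEquiv
  · intro p hp
    let y : PrimeSpectrum Γ(X, U) := ⟨p, hp.isPrime⟩
    have hy : hU.fromSpec y ∈ U := (hU.isoSpec.inv y).2
    let _ : Algebra Γ(X, U) (X.presheaf.stalk (hU.fromSpec y)) :=
      TopCat.Presheaf.algebra_section_stalk X.presheaf ⟨hU.fromSpec y, hy⟩
    have h1 : IsLocalization.AtPrime (X.presheaf.stalk (hU.fromSpec y)) p :=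
      hU.isLocalization_stalk' y hy
    have h2 : CAlg.IsN1 (X.presheaf.stalk (hU.fromSpec y)) := by
      by_cases hyV : hU.fromSpec y ∈ V
      · have := hV _ hyV
        exact isN1_of_normal _
      · obtain ⟨z, hz⟩ := hq _ hyV
        rw [← hz]
        have h3 := isIso_stalkMap q z
        exact _root_.K72.NagLocal.isN1_of_ringEquiv (asIso (q.stalkMap z)).commRingCatIsoToRingEquiv.symm
          (isN1_stalk hfin z)
    exact _root_.K72.NagLocal.isN1_of_ringEquiv (IsLocalization.algEquiv p.primeCompl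
      (X.presheaf.stalk (hU.fromSpec y)) (Localization.AtPrime p)).toRingEquiv h2

end K376.SprN1
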