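import Groth.Agent.Resolve.K376.SprStalk
import Groth.Agent.S5949

/-!
# Normalization commutes with flat preimmersions
-/

set_option autoImplicit false
universe u
open CategoryTheory CategoryTheory.Limits AlgebraicGeometry TopologicalSpace Opposite

namespace K376.SprNorm

open Groth.Agent SprStalk

theorem exists_point {P X Y Z : Scheme.{u}} {a : P ⟶ X} {b : P ⟶ Y} {f : X ⟶ Z} {g : Y ⟶ Z}
    (h : IsPullback a b f g) (x : X) (y : Y) (e : f x = g y) : ∃ z : P, a z = x ∧ b z = y := by
  obtain ⟨z, hz1, hz2⟩ := Scheme.Pullback.exists_preimage_pullback x y e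
  refine ⟨h.isoPullback.inv z, ?_, ?_⟩
  · rw [← Scheme.Hom.comp_apply, h.isoPullback_inv_fst, hz1]
  · rw [← Scheme.Hom.comp_apply, h.isoPullback_inv_snd, hz2]

theorem map_genericPoint {Z X : Scheme.{u}} [IrreducibleSpace Z] [IrreducibleSpace X] (q : Z ⟶ X) [Flat q]
    : q (genericPoint Z) = genericPoint X := by
  obtain ⟨z, hz1, hz2⟩ := Flat.generalizingMap q (genericPoint_specializes (q (genericPoint Z)))
  have h1 : z = genericPoint Z := (hz1.antisymm (genericPoint_specializes z)).eq
  rw [← hz2, h1]

theorem irreducible_of {N : Scheme.{u}} (n₀ : N) (h : ∀ n : N, n₀ ⤳ n) : IrreducibleSpace N := by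
  have h1 : IsIrreducible (Set.univ : Set N) := by
    have h2 : closure ({n₀} : Set N) = Set.univ := Set.eq_univ_of_forall fun n => (h n).mem_closure
    rw [← h2]
    exact isIrreducible_singleton.closure
  exact (irreducibleSpace_def N).2 h1

theorem exists_isPullback {Z X : Scheme.{u}} [IsIntegral X] [IsIntegral Z] (q : Z ⟶ X) [Flat q] [IsPreimmersion q]
    [QuasiCompact (Z.fromSpecStalk (genericPoint Z))] [QuasiSeparated (Z.fromSpecStalk (genericPoint Z))]
    [QuasiCompact (X.fromSpecStalk (genericPoint X))] [QuasiSeparated (X.fromSpecStalk (genericPoint X))] :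
    ∃ p : Curv2.normalization Z ⟶ Curv2.normalization X,
      IsPullback p (Curv2.normalizationι Z) (Curv2.normalizationι X) q := by
  obtain ⟨hX1, hX2, hXirr, hX3, hX4⟩ :=
    (Groth.Agent.S5949.result X (Curv2.normalizationι X)).1 ⟨Iso.refl _, Category.id_comp _⟩
  let N := pullback (Curv2.normalizationι X) q
  let a : N ⟶ Curv2.normalization X := pullback.fst _ _
  let b : N ⟶ Z := pullback.snd _ _
  have hpb : IsPullback a b (Curv2.normalizationι X) q := IsPullback.of_hasPullback _ _
  have ha1 : Flat a := inferInstance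
  have ha2 : IsPreimmersion a := inferInstance
  have hb : IsIntegralHom b := inferInstance
  have hgX : Curv2.normalizationι X (genericPoint (Curv2.normalization X)) = genericPoint X := by
    have h1 : genericPoint (Curv2.normalization X) ∈ ({genericPoint (Curv2.normalization X)} : Set _) := rfl
    rw [← hX3] at h1
    exact h1
  obtain ⟨n₀, hn1, hn2⟩ := exists_point hpb (genericPoint (Curv2.normalization X)) (genericPoint Z)
    (by rw [hgX, map_genericPoint])
  have hspec : ∀ n : N, n₀ ⤳ n := fun n => by
    rw [← a.isEmbedding.isInducing.specializes_iff, hn1]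
    exact genericPoint_specializes _
  have hirr : IrreducibleSpace N := irreducible_of n₀ hspec
  have hgN : genericPoint N = n₀ := ((genericPoint_specializes n₀).antisymm (hspec _)).eq
  have key : ∃ e : N ≅ Curv2.normalization Z, e.hom ≫ Curv2.normalizationι Z = b := by
    refine (Groth.Agent.S5949.result Z b).2 ⟨?_, hb, hirr, ?_, ?_⟩
    · intro n
      have h1 := isIso_stalkMap a n
      obtain ⟨h2, h3⟩ := hX1 (a n)
      let e' := (asIso (a.stalkMap n)).commRingCatIsoToRingEquiv
      exact ⟨e'.symm.toMulEquiv.isDomain _, IsIntegrallyClosed.of_equiv e'⟩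
    · ext n
      constructor
      · intro hn
        have h1 : q (b n) = genericPoint X := by
          have h2 : b n = genericPoint Z := hn
          rw [h2, map_genericPoint]
        have h2 : Curv2.normalizationι X (a n) = genericPoint X := by
          rw [← h1, ← Scheme.Hom.comp_apply, ← Scheme.Hom.comp_apply, hpb.w]
        have h3 : a n ∈ ({genericPoint (Curv2.normalization X)} : Set _) := by
          rw [← hX3]; exact h2
        have h4 : a n = a n₀ := by rw [hn1]; exact h3
        rw [hgN]
        exact a.isEmbedding.injective h4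
      · rintro rfl
        change b (genericPoint N) = genericPoint Z
        rw [hgN, hn2]
    · rw [hgN]
      have h1 : IsIso ((Curv2.normalizationι X).stalkMap (a n₀)) := by rw [hn1]; exact hX4
      have h2 := isIso_stalkMap a n₀
      have h3 : IsIso ((b ≫ q).stalkMap n₀) := by
        rw [← hpb.w, Scheme.Hom.stalkMap_comp]
        exact IsIso.comp_isIso' h1 h2
      rw [Scheme.Hom.stalkMap_comp] at h3
      have h4 := isIso_stalkMap q (b n₀)
      exact @IsIso.of_isIso_comp_left _ _ _ _ _ _ _ h4 h3
  obtain ⟨e, he⟩ := key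
  refine ⟨e.inv ≫ a, ?_⟩
  refine IsPullback.of_iso hpb e (Iso.refl _) (Iso.refl _) (Iso.refl _) ?_ ?_ ?_ ?_
  · simp
  · simp [he]
  · simp
  · simp

end K376.SprNorm
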