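import Groth.Agent.Resolve.K375.NormSt
import Groth.Agent.Ega4late.H533.DescScheme

/-!
# Flat preimmersions

`p : Z ⟶ X` flat and a preimmersion: the stalk maps are isomorphisms, and the ideal of a closed point `p z` pulls
back to the ideal of `z`.
-/

set_option autoImplicit false
universe u
open CategoryTheory CategoryTheory.Limits AlgebraicGeometry TopologicalSpace Opposite

namespace K376.SprStalk

open Groth.Agent Groth.Agent.Divis.CartierBasic

theorem isIso_stalkMap {Z X : Scheme.{u}} (p : Z ⟶ X) [Flat p] [IsPreimmersion p] (z : Z) :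
    IsIso (p.stalkMap z) := by
  have h1 : Function.Surjective (p.stalkMap z).hom := p.stalkMap_surjective z
  have h2 : (p.stalkMap z).hom.Flat := Flat.stalkMap p z
  have h3 : (p.stalkMap z).hom.FaithfullyFlat := by
    have hloc : IsLocalHom (p.stalkMap z).hom := inferInstance
    letI := (p.stalkMap z).hom.toAlgebra
    have hl : IsLocalHom (algebraMap (X.presheaf.stalk (p z)) (Z.presheaf.stalk z)) := hloc
    have hf : Module.Flat (X.presheaf.stalk (p z)) (Z.presheaf.stalk z) := h2
    exact Module.FaithfullyFlat.of_flat_of_isLocalHom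
  have h4 : Function.Bijective (p.stalkMap z).hom := ⟨h3.injective, h1⟩
  exact (ConcreteCategory.isIso_iff_bijective (p.stalkMap z)).2 h4

open Groth.Agent.Dix.PointIdeal in
theorem comap_pt {Z X : Scheme.{u}} (p : Z ⟶ X) [Flat p] [IsPreimmersion p] (z : Z) (hz : IsClosed ({z} : Set Z))
    (hx : IsClosed ({p z} : Set X)) : (pt (p z) hx).comap p = pt z hz := by
  refine ext_stalkIdeal fun w => ?_
  rw [Ega4late.H533.DescScheme.stalkIdeal_comap]
  have hinj : Function.Injective p := p.isEmbedding.injective
  by_cases hw : w = z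
  · subst hw
    rw [stalkIdeal_pt, stalkIdeal_pt]
    have h1 := isIso_stalkMap p w
    have h2 : Function.Surjective (p.stalkMap w).hom := p.stalkMap_surjective w
    apply le_antisymm
    · rw [Ideal.map_le_iff_le_comap]
      intro a ha
      have hloc : IsLocalHom (p.stalkMap w).hom := inferInstance
      rw [Ideal.mem_comap, IsLocalRing.mem_maximalIdeal, mem_nonunits_iff]
      rw [IsLocalRing.mem_maximalIdeal, mem_nonunits_iff] at ha
      exact fun h => ha (hloc.map_nonunit a h)
    · intro b hb
      obtain ⟨a, rfl⟩ := h2 b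
      refine Ideal.mem_map_of_mem _ ?_
      rw [IsLocalRing.mem_maximalIdeal, mem_nonunits_iff] at hb ⊢
      exact fun ha => hb (ha.map _)
  · have h1 : p w ∉ (pt (p z) hx).support := fun h => hw (hinj ((mem_support_pt _ hx _).1 h))
    have h2 : w ∉ (pt z hz).support := fun h => hw ((mem_support_pt _ hz _).1 h)
    rw [(notMem_support_iff_stalkIdeal_eq_top _ _).1 h1, (notMem_support_iff_stalkIdeal_eq_top _ _).1 h2,
      Ideal.map_top]

end K376.SprStalk
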