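import Groth.Agent.Resolve.K376.SprNorm
import Groth.Agent.Resolve.K376.SprN1
import Groth.Agent.S1680
import Groth.Agent.FlatA.FiniteExtend
import Groth.Agent.Surf.K463.MinModel

/-!
# Spreading out a sequence of normalized point blow-ups from `Spec O_{Y,y}` to `Y`
-/

set_option autoImplicit false
universe u
open CategoryTheory CategoryTheory.Limits AlgebraicGeometry TopologicalSpace Opposite

namespace K376.Spread

open Groth.Agent SprStalk SprNorm Groth.Agent.Resolve.K375.Tower Groth.Agent.Resolve.K375.Geo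
  Groth.Agent.Resolve.K375.NormSt Groth.Agent.Dix.PointIdeal Groth.Agent.Divis.CartierBasic

theorem isIntegral_of {Z X : Scheme.{u}} [IsIntegral X] (q : Z ⟶ X) [Flat q] [IsPreimmersion q] [Nonempty Z] :
    IsIntegral Z := by
  obtain ⟨z⟩ := ‹Nonempty Z›
  obtain ⟨z₀, hz1, hz2⟩ := Flat.generalizingMap q (genericPoint_specializes (q z))
  have h1 : ∀ w : Z, z₀ ⤳ w := fun w => by
    rw [← q.isEmbedding.isInducing.specializes_iff, hz2]
    exact genericPoint_specializes _
  have h2 : IrreducibleSpace Z := irreducible_of z₀ h1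
  have h3 : IsReduced Z := by
    have : ∀ w : Z, _root_.IsReduced (Z.presheaf.stalk w) := fun w => by
      have h4 := isIso_stalkMap q w
      have e := (asIso (q.stalkMap w)).commRingCatIsoToRingEquiv
      exact isReduced_of_injective e.symm.toRingHom e.symm.injective
    exact isReduced_of_isReduced_stalk Z
  exact isIntegral_of_irreducibleSpace_of_isReduced Z

/-- The blow-up of a closed point of an integral scheme, if integral, is dominant. -/
theorem ne_of_isBlowUp {Z' Z : Scheme.{u}} [IsIntegral Z'] [IsIntegral Z] {b : Z' ⟶ Z} {z : Z}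
    (hz : IsClosed ({z} : Set Z)) (hb : BlowUp.IsBlowUp b (pt z hz)) :
    b (genericPoint Z') ≠ z ∧ IsDominant b := by
  have h0 : b (genericPoint Z') ≠ z := by
    intro h
    obtain ⟨a, ha, haI⟩ := exists_stalkIdeal_eq_span hb.1 (genericPoint Z')
    have hf : IsField (Z'.presheaf.stalk (genericPoint Z')) := Field.toIsField Z'.functionField
    have h1 : genericPoint Z' ∈ ((pt z hz).comap b).support := by
      rw [Scheme.IdealSheafData.support_comap]
      exact (mem_support_pt z hz _).2 h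
    rw [mem_support_iff_stalkIdeal_ne_top, haI] at h1
    apply h1
    obtain ⟨c, hc⟩ := hf.mul_inv_cancel (nonZeroDivisors.ne_zero ha)
    rw [Ideal.eq_top_iff_one, Ideal.mem_span_singleton]
    exact ⟨c, hc.symm⟩
  refine ⟨h0, ⟨?_⟩⟩
  have h1 := isIso_compl hz hb
  have h2 : ((⟨{z}ᶜ, hz.isOpen_compl⟩ : Z.Opens) : Set Z) ⊆ Set.range b := by
    intro x hx
    obtain ⟨w, hw⟩ := (b ∣_ (⟨{z}ᶜ, hz.isOpen_compl⟩ : Z.Opens)).surjective ⟨x, hx⟩
    refine ⟨w.1, ?_⟩
    have := congrArg Subtype.val hw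
    rwa [morphismRestrict_base_coe] at this
  have h3 : Dense (((⟨{z}ᶜ, hz.isOpen_compl⟩ : Z.Opens) : Set Z)) :=
    (Opens.isOpen _).dense ⟨_, h0⟩
  exact h3.mono h2

theorem isIntegral_of_seq {Z S : Scheme.{u}} (r : Z ⟶ S) (hr : Resolve.IsNormPtBlowupSeq r) (hS : IsIntegral S) :
    IsIntegral Z := by
  induction hr with
  | @iso Y X e =>
    have : Nonempty Y := ⟨e.inv (genericPoint X)⟩
    exact isIntegral_of_isOpenImmersion e.hom
  | @step Z' Z X _ _ _ b r z hz hb hr ih =>
    obtain ⟨h1, -, -, -⟩ := Groth.Agent.S2351.result Z'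
    exact h1

/-- The fibre product of a blow-up of a point. -/
theorem blow_isPullback {Z X Z' X' : Scheme.{u}} (p : Z ⟶ X) [Flat p] [IsPreimmersion p] (z : Z)
    (hz : IsClosed ({z} : Set Z)) (hx : IsClosed ({p z} : Set X)) (c : Z' ⟶ Z)
    (hc : BlowUp.IsBlowUp c (pt z hz)) (B : X' ⟶ X) (hB : BlowUp.IsBlowUp B (pt (p z) hx)) :
    ∃ q : Z' ⟶ X', IsPullback q c B p := by
  have h1 := Groth.Agent.S1680.result p (pt (p z) hx) B hB
  rw [comap_pt p z hz hx] at h1
  obtain ⟨e, he⟩ := Groth.Agent.Divis.BlowUpFormal.exists_iso_of_isBlowUp hc h1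
  refine ⟨e.hom ≫ pullback.snd p B, ?_⟩
  refine IsPullback.of_iso (IsPullback.of_hasPullback p B).flip e.symm (Iso.refl _) (Iso.refl _) (Iso.refl _) ?_ ?_ ?_ ?_
  · simp
  · simp [← he]
  · simp
  · simp

theorem isClosed_of {Z X S Y : Scheme.{u}} {p : Z ⟶ X} {r : Z ⟶ S} {R : X ⟶ Y} {j : S ⟶ Y}
    (h : IsPullback p r R j) [Flat j] [IsPreimmersion j] [IsProper R] (s₀ : S) (hs₀ : ∀ s, s ⤳ s₀)
    (hc : IsClosed ({j s₀} : Set Y)) (z : Z) (hz : IsClosed ({z} : Set Z)) :
    r z = s₀ ∧ IsClosed ({p z} : Set X) := by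
  have hr : IsProper r := MorphismProperty.of_isPullback h ‹IsProper R›
  have hp : IsPreimmersion p := MorphismProperty.of_isPullback h.flip ‹IsPreimmersion j›
  have h1 : r z = s₀ := by
    have h2 := r.isClosedMap _ hz
    rw [Set.image_singleton] at h2
    have h3 : s₀ ∈ ({r z} : Set S) := (hs₀ (r z)).mem_closed h2 rfl
    exact h3.symm
  have hR : R (p z) = j s₀ := by
    rw [← Scheme.Hom.comp_apply, h.w, Scheme.Hom.comp_apply, h1]
  refine ⟨h1, ?_⟩
  rw [← closure_subset_iff_isClosed]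
  intro w hw
  have h2 : p z ⤳ w := specializes_iff_mem_closure.2 hw
  have h3 : R w = j s₀ := by
    have h4 : j s₀ ⤳ R w := by
      have h5 := h2.map R.continuous
      rwa [hR] at h5
    exact h4.mem_closed hc rfl
  obtain ⟨z', hz', -⟩ := exists_point h w s₀ h3
  have h4 : z ⤳ z' := by
    rw [← p.isEmbedding.isInducing.specializes_iff, hz']
    exact h2
  have h5 : z' = z := h4.mem_closed hz rfl
  rw [← hz', h5]
  rfl

/-- The conclusion of the spreading out. -/
structure Good {Z S Y : Scheme.{u}} (r : Z ⟶ S) (j : S ⟶ Y) (y : Y) {X : Scheme.{u}} (R : X ⟶ Y) (p : Z ⟶ X) :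
    Prop where
  seq : Seq NSt R
  pb : IsPullback p r R j
  int : IsIntegral X
  proper : IsProper R
  normal : Pi1.IsNormalScheme X
  iso : ∀ U : Y.Opens, y ∉ U → IsIso (R ∣_ U)

theorem isIso_normalized {Z' Z : Scheme.{u}} [IsIntegral Z'] [QuasiCompact (Z'.fromSpecStalk (genericPoint Z'))]
    [QuasiSeparated (Z'.fromSpecStalk (genericPoint Z'))] [IsIntegral Z] (hZ : Pi1.IsNormalScheme Z)
    (c : Z' ⟶ Z) (W : Z.Opens) (hW : IsIso (c ∣_ W)) : IsIso ((Curv2.normalizationι Z' ≫ c) ∣_ W) := by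
  choose U hxU hUW _ hU using fun x : W => isIso_comp hZ c W hW x.1 x.2
  have h1 : (⨆ x, (U x)) = W := by
    apply le_antisymm
    · exact iSup_le hUW
    · intro x hx
      exact Opens.mem_iSup.2 ⟨⟨x, hx⟩, hxU _⟩
  rw [← h1]
  exact FlatA.FiniteExtend.isIso_morphismRestrict_iSup _ U hU

theorem spread {Z S : Scheme.{u}} (r : Z ⟶ S) (hr : Resolve.IsNormPtBlowupSeq r) :
    ∀ (_ : IsNoetherian S) (Y : Scheme.{u}) (_ : IsIntegral Y) (_ : IsNoetherian Y) (_ : Pi1.IsNormalScheme Y)
      (j : S ⟶ Y) (_ : Flat j) (_ : IsPreimmersion j) (s₀ : S) (_ : ∀ s, s ⤳ s₀) (_ : IsClosed ({j s₀} : Set Y))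
      (T : Scheme.{u}) (_ : IsIntegral T) (_ : Pi1.IsNormalScheme T) (t : T ⟶ Z) (_ : IsDominant t)
      (_ : IsProper (t ≫ r)), ∃ (X : Scheme.{u}) (R : X ⟶ Y) (p : Z ⟶ X), Good r j (j s₀) R p := by
  induction hr with
  | @iso Z S e =>
    intro _ Y hYi hYN hYn j hj1 hj2 s₀ hs₀ hc T hT hTn t ht htr
    refine ⟨Y, 𝟙 Y, e.hom ≫ j, Seq.id Y, ?_, hYi, inferInstance, hYn, fun U _ => inferInstance⟩
    exact IsPullback.of_vert_isIso ⟨by simp⟩
  | @step Z' Z S _ _ _ b r z hz hb hr ih =>
    intro hSN Y hYi hYN hYn j hj1 hj2 s₀ hs₀ hc T hT hTn t ht htr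
    have hSne : Nonempty S := ⟨s₀⟩
    have hSi : IsIntegral S := isIntegral_of j
    have hZi : IsIntegral Z := isIntegral_of_seq r hr hSi
    have hb' : BlowUp.IsBlowUp b (pt z hz) := hb
    obtain ⟨hne, hbd⟩ := ne_of_isBlowUp hz hb'
    obtain ⟨hνi, hνn, hνs, -⟩ := Groth.Agent.S2351.result Z'
    have hν' : IsDominant (Curv2.normalizationι Z') := inferInstance
    have hzne : z ≠ genericPoint Z := by
      intro h
      exact hne ((h ▸ genericPoint_specializes (b (genericPoint Z')) : z ⤳ b (genericPoint Z')).mem_closed hz rfl)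
    obtain ⟨X, R, p, hG⟩ := ih hSN Y hYi hYN hYn j hj1 hj2 s₀ hs₀ hc T hT hTn
      (t ≫ Curv2.normalizationι Z' ≫ b) inferInstance (by simpa only [Category.assoc] using htr)
    have hXi := hG.int
    have hRp := hG.proper
    have hXN : IsNoetherian X := isNoetherian_of_isProper R
    have hpf : Flat p := MorphismProperty.of_isPullback hG.pb.flip hj1
    have hpp : IsPreimmersion p := MorphismProperty.of_isPullback hG.pb.flip hj2
    have hrp : IsProper r := MorphismProperty.of_isPullback hG.pb hRp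
    obtain ⟨hrz, hx⟩ := isClosed_of hG.pb s₀ hs₀ hc z hz
    obtain ⟨X', B, hB⟩ := exists_ptSt (p z) hx
    have hxne : p z ≠ genericPoint X := by
      intro h
      rw [← map_genericPoint p] at h
      exact hzne (p.isEmbedding.injective h)
    have hBm := hB.isModif hxne
    have hX'i := hBm.integral
    have hBp := hBm.proper
    have hX'N : IsNoetherian X' := isNoetherian_of_isProper B
    have hBoff := hB.off
    obtain ⟨_, hB'⟩ := id hB
    obtain ⟨q, hq⟩ := blow_isPullback p z hz hx b hb' B hB'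
    have hqf : Flat q := MorphismProperty.of_isPullback hq.flip hpf
    have hqp : IsPreimmersion q := MorphismProperty.of_isPullback hq.flip hpp
    have hbp : IsProper b := MorphismProperty.of_isPullback hq hBp
    have hZN : IsNoetherian Z := isNoetherian_of_isProper r
    have hZ'N : IsNoetherian Z' := isNoetherian_of_isProper b
    have htν : IsProper (t ≫ Curv2.normalizationι Z') := by
      have h1 : IsProper ((t ≫ Curv2.normalizationι Z') ≫ (b ≫ r)) := by
        simpa only [Category.assoc] using htr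
      exact IsProper.of_comp (t ≫ Curv2.normalizationι Z') (b ≫ r)
    have hfinZ : IsFinite (Curv2.normalizationι Z') :=
      K373.NormFin.isFinite_of_normal Z' hTn (t ≫ Curv2.normalizationι Z')
    have hfinX : IsFinite (Curv2.normalizationι X') := by
      refine SprN1.isFinite_of_cover (B ⁻¹ᵁ (⟨{p z}ᶜ, hx.isOpen_compl⟩ : X.Opens)) ?_ ?_ q ?_ hfinZ
      · exact ⟨genericPoint X', (ne_of_isBlowUp hx hB').1⟩
      · intro w hw
        have h1 := hBoff.iso w hw
        obtain ⟨-, h2⟩ := hG.normal (B w)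
        exact IsIntegrallyClosed.of_equiv (asIso (B.stalkMap w)).commRingCatIsoToRingEquiv
      · intro w hw
        have h1 : B w = p z := by
          by_contra h
          exact hw h
        obtain ⟨z', hz', -⟩ := exists_point hq w z h1
        exact ⟨z', hz'⟩
    obtain ⟨p', hp'⟩ := SprNorm.exists_isPullback q
    obtain ⟨hXi', hXn', -, -⟩ := Groth.Agent.S2351.result X'
    refine ⟨Curv2.normalization X', (Curv2.normalizationι X' ≫ B) ≫ R, p', ?_, ?_, hXi', inferInstance, hXn', ?_⟩
    · exact Seq.step _ (p z) R (NSt.mk B (p z) hB) hG.seq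
    · have h1 := (hp'.paste_vert hq).paste_vert hG.pb
      rw [Category.assoc] at h1
      exact h1
    · intro U hU
      have h1 := hG.iso U hU
      have h2 : IsIso (B ∣_ (R ⁻¹ᵁ U)) := by
        refine K463.MinModel.isIso_restrict_of_le B ?_ (isIso_compl hx hB')
        intro w hw hw'
        have h3 : w = p z := hw'
        apply hU
        have h4 : R w ∈ U := hw
        rw [h3, ← Scheme.Hom.comp_apply, hG.pb.w, Scheme.Hom.comp_apply, hrz] at h4
        exact h4
      have h3 := isIso_normalized hG.normal B _ h2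
      rw [morphismRestrict_comp]
      exact IsIso.comp_isIso' h3 h1

end K376.Spread
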