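import Groth.Agent.Resolve.K376.Spread
import Groth.Agent.S2821

/-!
# Resolving finitely many singular points by normalized point blow-ups
-/

set_option autoImplicit false
universe u
open CategoryTheory CategoryTheory.Limits AlgebraicGeometry TopologicalSpace Opposite

namespace K376.Spread2

open Groth.Agent SprStalk SprNorm Spread Groth.Agent.Resolve.K375.Tower Groth.Agent.Resolve.K375.Geo
  Groth.Agent.Resolve.K375.NormSt

/-- `Spec O_{Y,y}` is resolved by a sequence of normalized point blow-ups. -/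
def LR (Y : Scheme.{u}) (y : Y) : Prop :=
  ∃ (Z : Scheme.{u}) (r : Z ⟶ Spec (Y.presheaf.stalk y)), Resolve.IsNormPtBlowupSeq r ∧ IsProper r ∧
    ∀ z : Z, IsRegularLocalRing (Z.presheaf.stalk z)

theorem seq_comp_iso {Z S S' : Scheme.{u}} (r : Z ⟶ S) (hr : Resolve.IsNormPtBlowupSeq r) (e : S ≅ S') :
    Resolve.IsNormPtBlowupSeq (r ≫ e.hom) := by
  induction hr with
  | @iso Z S e' => exact Resolve.IsNormPtBlowupSeq.iso (e' ≪≫ e)
  | @step Z' Z S _ _ _ b r z hz hb hr ih =>
    rw [Category.assoc, Category.assoc]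
    exact Resolve.IsNormPtBlowupSeq.step b _ z hz hb (ih e)

theorem LR.of_isIso {X Y : Scheme.{u}} (R : X ⟶ Y) (x : X) (h : IsIso (R.stalkMap x)) (hx : LR Y (R x)) : LR X x := by
  obtain ⟨Z, r, h1, h2, h3⟩ := hx
  let e : Spec (Y.presheaf.stalk (R x)) ≅ Spec (X.presheaf.stalk x) :=
    (Scheme.Spec.mapIso (asIso (R.stalkMap x)).op).symm
  exact ⟨Z, r ≫ e.hom, seq_comp_iso r h1 e, inferInstance, h3⟩

theorem isNormal_of_regular {X : Scheme.{u}} (h : ∀ x : X, IsRegularLocalRing (X.presheaf.stalk x)) :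
    Pi1.IsNormalScheme X := by
  intro x
  have := h x
  obtain ⟨h1, h2⟩ := Groth.Agent.S2821.result (X.presheaf.stalk x)
  exact ⟨h1, inferInstance⟩

theorem iso_stalkMap_of {X Y : Scheme.{u}} (R : X ⟶ Y) (U : Y.Opens) (h : IsIso (R ∣_ U)) (x : X) (hx : R x ∈ U) :
    IsIso (R.stalkMap x) :=
  Dix.BirIso.isIso_stalkMap R U h x hx

/-- One singular point. -/
theorem one (Y : Scheme.{u}) (hYi : IsIntegral Y) (hYN : IsNoetherian Y) (hYn : Pi1.IsNormalScheme Y) (y : Y)
    (hc : IsClosed ({y} : Set Y)) (h : LR Y y) :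
    ∃ (X : Scheme.{u}) (R : X ⟶ Y), Seq NSt R ∧ IsIntegral X ∧ IsProper R ∧ Pi1.IsNormalScheme X ∧
      (∀ U : Y.Opens, y ∉ U → IsIso (R ∣_ U)) ∧ ∀ x : X, R x = y → IsRegularLocalRing (X.presheaf.stalk x) := by
  obtain ⟨Z, r, h1, h2, h3⟩ := h
  have hj1 : Flat (Y.fromSpecStalk y) := inferInstance
  have hj2 : IsPreimmersion (Y.fromSpecStalk y) := inferInstance
  have hS : IsNoetherian (Spec (Y.presheaf.stalk y)) := inferInstance
  let s₀ : Spec (Y.presheaf.stalk y) := IsLocalRing.closedPoint (Y.presheaf.stalk y)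
  have hjs : Y.fromSpecStalk y s₀ = y := Scheme.fromSpecStalk_closedPoint
  have hne : Nonempty (Spec (Y.presheaf.stalk y)) := ⟨s₀⟩
  have hSi : IsIntegral (Spec (Y.presheaf.stalk y)) := Spread.isIntegral_of (Y.fromSpecStalk y)
  have hZi := isIntegral_of_seq r h1 hSi
  obtain ⟨X, R, p, hG⟩ := spread r h1 hS Y hYi hYN hYn (Y.fromSpecStalk y) hj1 hj2 s₀
    (fun s => IsLocalRing.specializes_closedPoint s) (by rw [hjs]; exact hc) Z hZi (isNormal_of_regular h3) (𝟙 Z) inferInstance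
    (by rw [Category.id_comp]; exact h2)
  rw [hjs] at hG
  have hpf : Flat p := MorphismProperty.of_isPullback hG.pb.flip hj1
  have hpp : IsPreimmersion p := MorphismProperty.of_isPullback hG.pb.flip hj2
  refine ⟨X, R, hG.seq, hG.int, hG.proper, hG.normal, hG.iso, fun x hx => ?_⟩
  obtain ⟨z, hz, -⟩ := exists_point hG.pb x s₀ (by rw [hx, hjs])
  rw [← hz]
  have h4 := SprStalk.isIso_stalkMap p z
  have := h3 z
  exact IsRegularLocalRing.of_ringEquiv (asIso (p.stalkMap z)).commRingCatIsoToRingEquiv.symm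

theorem all (n : ℕ) : ∀ (Y : Scheme.{u}) (_ : IsIntegral Y) (_ : IsNoetherian Y) (_ : Pi1.IsNormalScheme Y)
    (_ : {y : Y | ¬ IsRegularLocalRing (Y.presheaf.stalk y)}.Finite)
    (_ : {y : Y | ¬ IsRegularLocalRing (Y.presheaf.stalk y)}.ncard ≤ n)
    (_ : ∀ y : Y, ¬ IsRegularLocalRing (Y.presheaf.stalk y) → IsClosed ({y} : Set Y) ∧ LR Y y),
    ∃ (X : Scheme.{u}) (R : X ⟶ Y), Seq NSt R ∧ IsProper R ∧
      ∀ x : X, IsRegularLocalRing (X.presheaf.stalk x) := by
  induction n with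
  | zero =>
    intro Y hYi hYN hYn hfin hn hLR
    rw [Nat.le_zero, Set.ncard_eq_zero hfin] at hn
    refine ⟨Y, 𝟙 Y, Seq.id Y, inferInstance, fun y => ?_⟩
    by_contra h
    have h1 : y ∈ {y : Y | ¬ IsRegularLocalRing (Y.presheaf.stalk y)} := h
    rw [hn] at h1
    exact h1
  | succ n ih =>
    intro Y hYi hYN hYn hfin hn hLR
    rcases Set.eq_empty_or_nonempty {y : Y | ¬ IsRegularLocalRing (Y.presheaf.stalk y)} with hT | ⟨y, hy⟩
    · refine ⟨Y, 𝟙 Y, Seq.id Y, inferInstance, fun y => ?_⟩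
      by_contra h
      have h1 : y ∈ {y : Y | ¬ IsRegularLocalRing (Y.presheaf.stalk y)} := h
      rw [hT] at h1
      exact h1
    obtain ⟨hyc, hyLR⟩ := hLR y hy
    obtain ⟨X, R, hR1, hXi, hRp, hXn, hRiso, hreg⟩ := one Y hYi hYN hYn y hyc hyLR
    have hXN : IsNoetherian X := isNoetherian_of_isProper R
    let V : Y.Opens := ⟨{y}ᶜ, hyc.isOpen_compl⟩
    have hV : IsIso (R ∣_ V) := hRiso V (fun h => h rfl)
    have key : ∀ x : X, ¬ IsRegularLocalRing (X.presheaf.stalk x) → R x ≠ y ∧ IsIso (R.stalkMap x) ∧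
        ¬ IsRegularLocalRing (Y.presheaf.stalk (R x)) := by
      intro x hx
      have h1 : R x ≠ y := fun h => hx (hreg x h)
      have h2 := iso_stalkMap_of R V hV x h1
      refine ⟨h1, h2, fun h => hx ?_⟩
      exact IsRegularLocalRing.of_ringEquiv (asIso (R.stalkMap x)).commRingCatIsoToRingEquiv
    have hinj : Set.InjOn R {x : X | ¬ IsRegularLocalRing (X.presheaf.stalk x)} := by
      intro a ha b hb hab
      exact Dix.BirIso.inj R V hV a b (key a ha).1 hab
    have hsub : R '' {x : X | ¬ IsRegularLocalRing (X.presheaf.stalk x)} ⊆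
        {y : Y | ¬ IsRegularLocalRing (Y.presheaf.stalk y)} \ {y} := by
      rintro _ ⟨x, hx, rfl⟩
      exact ⟨(key x hx).2.2, (key x hx).1⟩
    have hfin1 : {x : X | ¬ IsRegularLocalRing (X.presheaf.stalk x)}.Finite :=
      Set.Finite.of_finite_image ((hfin.subset Set.sdiff_subset).subset hsub) hinj
    have hcard : {x : X | ¬ IsRegularLocalRing (X.presheaf.stalk x)}.ncard ≤ n := by
      rw [← Set.InjOn.ncard_image hinj]
      have h1 := Set.ncard_le_ncard hsub (hfin.subset Set.sdiff_subset)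
      have h2 := Set.ncard_sdiff_singleton_add_one hy hfin
      omega
    obtain ⟨X2, R2, hR2, hR2p, hX2⟩ := ih X hXi hXN hXn hfin1 hcard (fun x hx => by
      obtain ⟨h1, h2, h3⟩ := key x hx
      obtain ⟨h4, h5⟩ := hLR (R x) h3
      refine ⟨?_, LR.of_isIso R x h2 h5⟩
      have h6 : ({x} : Set X) = R ⁻¹' {R x} := by
        ext w
        constructor
        · rintro rfl; rfl
        · intro hw
          exact Dix.BirIso.inj R V hV w x (by rw [show R w = R x from hw]; exact h1) hw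
      rw [h6]
      exact h4.preimage R.continuous)
    exact ⟨X2, R2 ≫ R, hR2.comp hR1, inferInstance, hX2⟩

end K376.Spread2
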