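import Groth.Agent.Resolve.K376.Spread2
import Groth.Agent.Resolve.K376.DesFib
import Groth.Agent.S9690
import Groth.Agent.S2516
import Groth.Agent.Surf.K456.Resol
import Groth.Agent.Resolve.K375.PtSeq

/-!
# Resolution of surfaces by normalized point blow-ups, from the local case
-/

set_option autoImplicit false
universe u
open CategoryTheory CategoryTheory.Limits AlgebraicGeometry TopologicalSpace Opposite

namespace K376.Spread3

open Groth.Agent SprStalk SprNorm Spread Spread2 Groth.Agent.Resolve.K375.Tower Groth.Agent.Resolve.K375.Geo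
  Groth.Agent.Resolve.K375.NormSt Groth.Agent.Resolve.K375.HomGlue

theorem isIso_restrict_of_isPullback {P X S Y : Scheme.{u}} {a : P ⟶ X} {b : P ⟶ S} {f : X ⟶ Y} {j : S ⟶ Y}
    (h : IsPullback a b f j) (W : Y.Opens) (hW : IsIso (f ∣_ W)) : IsIso (b ∣_ (j ⁻¹ᵁ W)) := by
  have h1 := (isPullback_morphismRestrict b (j ⁻¹ᵁ W)).flip
  have h2 := h1.paste_horiz h
  have h3 := (isPullback_morphismRestrict f W).flip
  have e : (j ⁻¹ᵁ W).ι ≫ j = (j ∣_ W) ≫ W.ι := (morphismRestrict_ι j W).symm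
  rw [e] at h2
  have h4 := IsPullback.of_right (h₁₁ := h3.lift ((b ⁻¹ᵁ (j ⁻¹ᵁ W)).ι ≫ a) ((b ∣_ (j ⁻¹ᵁ W)) ≫ (j ∣_ W))
    (by rw [h2.w, Category.assoc])) (by rw [h3.lift_fst]; exact h2) (h3.lift_snd _ _ _) h3
  exact MorphismProperty.of_isPullback (P := MorphismProperty.isomorphisms Scheme) h4 hW

/-- If the inverse of a birational separated morphism is defined at `y`, then `f` is an isomorphism near `y`. -/
theorem exists_isIso_of_good {X Y : Scheme.{u}} [IsIntegral X] [IsIntegral Y] (f : X ⟶ Y) [IsSeparated f]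
    [LocallyOfFiniteType f] (W : Y.Opens) (hWne : (W : Set Y).Nonempty) (hW : IsIso (f ∣_ W)) (y : Y)
    (hy : Good f (𝟙 Y) y) : ∃ U : Y.Opens, y ∈ U ∧ IsIso (f ∣_ U) := by
  obtain ⟨U, hU, g, hg⟩ := exists_open hy
  rw [Category.comp_id] at hg
  refine ⟨U, hU, ?_⟩
  have hηU : genericPoint Y ∈ U := ((genericPoint_spec Y).mem_open_set_iff U.isOpen).mpr ⟨y, trivial, hU⟩
  have hηW : genericPoint Y ∈ W := ((genericPoint_spec Y).mem_open_set_iff W.isOpen).mpr (by simpa using hWne)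
  obtain ⟨x, hx⟩ := K456.Resol.exists_of_isIso_restrict f hW hηW
  have hne : Nonempty (f ⁻¹ᵁ U).toScheme := ⟨⟨x, by change f x ∈ U; rw [hx]; exact hηU⟩⟩
  have hfη : f (genericPoint X) = genericPoint Y := by
    have h1 : f (genericPoint X) ⤳ genericPoint Y := by
      rw [← hx]; exact (genericPoint_specializes x).map f.continuous
    exact (h1.antisymm (genericPoint_specializes _)).eq
  have hint : IsIntegral (f ⁻¹ᵁ U).toScheme := inferInstance
  have hηX : genericPoint X ∈ f ⁻¹ᵁ U := by change f (genericPoint X) ∈ U; rw [hfη]; exact hηU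
  have hι : (f ⁻¹ᵁ U).ι (genericPoint (f ⁻¹ᵁ U).toScheme) = genericPoint X := map_genericPoint _
  have key : (f ∣_ U) ≫ g = (f ⁻¹ᵁ U).ι := by
    refine Groth.Agent.Resolve.K375.HomGlue.hom_ext f W hW _ _ ?_ ?_
    · rw [Category.assoc, hg, morphismRestrict_ι]
    · have h1 : ((f ∣_ U) ≫ g ≫ f) (genericPoint (f ⁻¹ᵁ U).toScheme) = genericPoint Y := by
        rw [hg, morphismRestrict_ι, Scheme.Hom.comp_apply, hι, hfη]
      rw [← Scheme.Hom.comp_apply, Category.assoc, h1]
      exact hηW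
  have h3 := (isPullback_morphismRestrict f U).flip
  refine ⟨h3.lift g (𝟙 _) (by rw [hg, Category.id_comp]), ?_, h3.lift_snd _ _ _⟩
  rw [← cancel_mono (f ⁻¹ᵁ U).ι, Category.assoc, h3.lift_fst, key, Category.id_comp]

/-- The bad points of a normal surface with a resolution. -/
theorem finite_bad {X Y : Scheme.{u}} [IsIntegral X] [IsIntegral Y] [IsNoetherian Y] (hY : Pi1.IsNormalScheme Y)
    (hdim : ∀ y : Y, ringKrullDim (Y.presheaf.stalk y) ≤ ((2 : ℕ) : WithBot ℕ∞)) (f : X ⟶ Y) [IsProper f]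
    (hX : ∀ x : X, IsRegularLocalRing (X.presheaf.stalk x))
    (W : Y.Opens) (hWne : (W : Set Y).Nonempty) (hW : IsIso (f ∣_ W)) :
    {y : Y | ¬ IsRegularLocalRing (Y.presheaf.stalk y)}.Finite ∧
      ∀ y : Y, ¬ IsRegularLocalRing (Y.presheaf.stalk y) → ringKrullDim (Y.presheaf.stalk y) = 2 ∧
        IsClosed ({y} : Set Y) := by
  have h2 : ∀ y : Y, ¬ Good f (𝟙 Y) y → ((2 : ℕ) : WithBot ℕ∞) ≤ ringKrullDim (Y.presheaf.stalk y) := by
    intro y hy
    by_contra hlt
    apply hy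
    have h1 : ringKrullDim (Y.presheaf.stalk y) ≤ 1 := by
      rw [Models2.CodimStalk.coe_codim] at hlt ⊢
      rw [not_le, Nat.cast_lt] at hlt
      exact_mod_cast Nat.lt_succ_iff.1 hlt
    have h3 := K456.Resol.isRegular_of_le_one hY y h1
    obtain ⟨h4, -⟩ := hY y
    have h5 := Groth.Agent.S2516.valuationRing_of_regular (Y.presheaf.stalk y) h1
    exact good_of_valuationRing f W hW (𝟙 Y)
      (((genericPoint_spec Y).mem_open_set_iff W.isOpen).mpr (by simpa using hWne)) y h5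
  have hbad : ∀ y : Y, ¬ IsRegularLocalRing (Y.presheaf.stalk y) → ¬ Good f (𝟙 Y) y := by
    intro y hy hg
    obtain ⟨U, hyU, hU⟩ := exists_isIso_of_good f W hWne hW y hg
    exact hy (DesFib.isRegular_of_isIso f hX U hU y hyU)
  have hfin : {y : Y | ¬ Good f (𝟙 Y) y}.Finite :=
    Groth.Agent.Resolve.K375.Geo.finite_of_dim 2 hdim (isOpen_good f (𝟙 Y)).isClosed_compl h2
  refine ⟨hfin.subset hbad, fun y hy => ⟨le_antisymm (hdim y) (h2 y (hbad y hy)), ?_⟩⟩
  rw [← closure_subset_iff_isClosed]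
  intro w hw
  by_contra hne
  have h3 := Groth.Agent.Resolve.K375.Geo.ringKrullDim_add_one_le (specializes_iff_mem_closure.2 hw)
    (fun h => hne h.symm)
  have h4 := h2 y (hbad y hy)
  have h5 := hdim w
  rw [Models2.CodimStalk.coe_codim] at h3 h4
  rw [Models2.CodimStalk.coe_codim] at h3 h5
  rw [Nat.cast_le] at h4 h5
  have h6 : Models2.CodimStalk.codim Y y + 1 ≤ Models2.CodimStalk.codim Y w := by exact_mod_cast h3
  omega

/-- The statement of the local theorem. -/
def Local : Prop :=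
  ∀ (A : Type u) [CommRing A] [IsDomain A] [IsLocalRing A] [IsNoetherianRing A] [IsIntegrallyClosed A]
    (_ : ringKrullDim A = 2)
    (_ : ∃ (X : Scheme.{u}) (f : X ⟶ Spec (CommRingCat.of A)), IsProper f ∧ IsIntegral X ∧
      (∃ U : (Spec (CommRingCat.of A)).Opens, (U : Set (Spec (CommRingCat.of A))).Nonempty ∧ IsIso (f ∣_ U)) ∧
      ∀ x : X, IsRegularLocalRing (X.presheaf.stalk x)),
    ∃ (Xn : Scheme.{u}) (g : Xn ⟶ Spec (CommRingCat.of A)), Resolve.IsNormPtBlowupSeq g ∧ IsProper g ∧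
      ∀ x : Xn, IsRegularLocalRing (Xn.presheaf.stalk x)

theorem normal_case (H : Local.{u}) {X Y : Scheme.{u}} [IsIntegral X] [IsIntegral Y] [IsNoetherian Y]
    (hY : Pi1.IsNormalScheme Y)
    (hdim : ∀ y : Y, ringKrullDim (Y.presheaf.stalk y) ≤ ((2 : ℕ) : WithBot ℕ∞)) (f : X ⟶ Y) [IsProper f]
    (hX : ∀ x : X, IsRegularLocalRing (X.presheaf.stalk x))
    (W : Y.Opens) (hWne : (W : Set Y).Nonempty) (hW : IsIso (f ∣_ W)) :
    ∃ (X' : Scheme.{u}) (R : X' ⟶ Y), Seq NSt R ∧ IsProper R ∧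
      ∀ x : X', IsRegularLocalRing (X'.presheaf.stalk x) := by
  obtain ⟨hfin, hbad⟩ := finite_bad hY hdim f hX W hWne hW
  refine Spread2.all _ Y inferInstance inferInstance hY hfin le_rfl fun y hy => ⟨(hbad y hy).2, ?_⟩
  obtain ⟨hyd, hyi⟩ := hY y
  have hj1 : Flat (Y.fromSpecStalk y) := inferInstance
  have hj2 : IsPreimmersion (Y.fromSpecStalk y) := inferInstance
  have hηW : genericPoint Y ∈ W := ((genericPoint_spec Y).mem_open_set_iff W.isOpen).mpr (by simpa using hWne)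
  have hne : Nonempty (Spec (Y.presheaf.stalk y)) := ⟨IsLocalRing.closedPoint (Y.presheaf.stalk y)⟩
  have hSi : IsIntegral (Spec (Y.presheaf.stalk y)) := Spread.isIntegral_of (Y.fromSpecStalk y)
  have hgen : Y.fromSpecStalk y (genericPoint (Spec (Y.presheaf.stalk y))) = genericPoint Y := map_genericPoint _
  obtain ⟨x, hx⟩ := K456.Resol.exists_of_isIso_restrict f hW hηW
  have hpb := IsPullback.of_hasPullback f (Y.fromSpecStalk y)
  obtain ⟨z, hz1, hz2⟩ := exists_point hpb x (genericPoint (Spec (Y.presheaf.stalk y))) (by rw [hx, hgen])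
  have hPne : Nonempty (pullback f (Y.fromSpecStalk y) : Scheme.{u}) := ⟨z⟩
  have hPi : IsIntegral (pullback f (Y.fromSpecStalk y)) := Spread.isIntegral_of (pullback.fst f (Y.fromSpecStalk y))
  exact H (Y.presheaf.stalk y) (hbad y hy).1 ⟨pullback f (Y.fromSpecStalk y), pullback.snd _ _, inferInstance, hPi,
    ⟨(Y.fromSpecStalk y) ⁻¹ᵁ W, ⟨genericPoint (Spec (Y.presheaf.stalk y)), by
      change Y.fromSpecStalk y (genericPoint (Spec (Y.presheaf.stalk y))) ∈ W
      rw [hgen]; exact hηW⟩, isIso_restrict_of_isPullback hpb W hW⟩, fun w => by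
      have h1 := SprStalk.isIso_stalkMap (pullback.fst f (Y.fromSpecStalk y)) w
      have := hX (pullback.fst f (Y.fromSpecStalk y) w)
      exact IsRegularLocalRing.of_ringEquiv
        (asIso ((pullback.fst f (Y.fromSpecStalk y)).stalkMap w)).commRingCatIsoToRingEquiv⟩

theorem forward (H : Local.{u}) (Y : Scheme.{u}) [IsIntegral Y] [IsNoetherian Y]
    (hdim : topologicalKrullDim Y = 2)
    [QuasiCompact (Y.fromSpecStalk (genericPoint Y))] [QuasiSeparated (Y.fromSpecStalk (genericPoint Y))]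
    (X : Scheme.{u}) (g : X ⟶ Y) (hg : IsProper g) (hX : IsIntegral X)
    (V : Y.Opens) (hVne : (V : Set Y).Nonempty) (hV : IsIso (g ∣_ V))
    (hreg : ∀ x : X, IsRegularLocalRing (X.presheaf.stalk x)) :
    ∃ (Xn : Scheme.{u}) (g : Xn ⟶ Curv2.normalization Y), Resolve.IsNormPtBlowupSeq g ∧
        IsProper (g ≫ Curv2.normalizationι Y) ∧ ∀ x : Xn, IsRegularLocalRing (Xn.presheaf.stalk x) := by
  have hXn := Spread2.isNormal_of_regular hreg
  have hηV : genericPoint Y ∈ V := ((genericPoint_spec Y).mem_open_set_iff V.isOpen).mpr (by simpa using hVne)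
  obtain ⟨x, hx⟩ := K456.Resol.exists_of_isIso_restrict g hV hηV
  have hgη : g (genericPoint X) = genericPoint Y := by
    have h1 : g (genericPoint X) ⤳ genericPoint Y := by
      rw [← hx]; exact (genericPoint_specializes x).map g.continuous
    exact (h1.antisymm (genericPoint_specializes _)).eq
  have hgd : IsDominant g := by
    refine ⟨?_⟩
    rw [DenseRange, dense_iff_closure_eq]
    refine Set.eq_univ_of_forall fun y => ?_
    refine (genericPoint_specializes y).mem_closed isClosed_closure ?_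
    rw [← hgη]
    exact subset_closure ⟨_, rfl⟩
  have hfin : IsFinite (Curv2.normalizationι Y) := K373.NormFin.isFinite_of_normal Y hXn g
  obtain ⟨hνi, hνn, hνs, -⟩ := Groth.Agent.S2351.result Y
  have hνN : IsNoetherian (Curv2.normalization Y) := isNoetherian_of_isProper (Curv2.normalizationι Y)
  obtain ⟨h, hh, -⟩ := Groth.Agent.S9690.result Y g hXn (by
    intro z hz
    have h1 : closure {z} = Set.univ := by
      rw [irreducibleComponents_eq_singleton, Set.mem_singleton_iff] at hz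
      exact hz
    have h2 : z = genericPoint X := by
      have h3 : z ⤳ genericPoint X := by
        rw [specializes_iff_mem_closure, h1]; trivial
      exact (h3.antisymm (genericPoint_specializes z)).eq
    rw [h2]
    exact hgη)
  have hhp : IsProper h := by
    have : IsProper (h ≫ Curv2.normalizationι Y) := by rw [hh]; exact hg
    exact IsProper.of_comp h (Curv2.normalizationι Y)
  obtain ⟨V', hV'ne, hV'⟩ := K373.NormFin.exists_isIso Y hfin
  have hηV' : genericPoint Y ∈ V' := ((genericPoint_spec Y).mem_open_set_iff V'.isOpen).mpr (by simpa using hV'ne)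
  -- dimensions
  have hdim' : ∀ y : Curv2.normalization Y,
      ringKrullDim ((Curv2.normalization Y).presheaf.stalk y) ≤ ((2 : ℕ) : WithBot ℕ∞) := by
    intro y
    exact ((ringKrullDim_le_of_isModif (Curv2.normalizationι Y) ⟨inferInstance, hνi, V', hV'ne, hV'⟩ y).trans
      (Groth.Agent.Resolve.K375.PtSeq.ringKrullDim_le Y _)).trans hdim.le
  have hW1 : IsIso (g ∣_ (V ⊓ V')) := K463.MinModel.isIso_restrict_of_le g inf_le_left hV
  have hW2 : IsIso (Curv2.normalizationι Y ∣_ (V ⊓ V')) :=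
    K463.MinModel.isIso_restrict_of_le _ inf_le_right hV'
  have hW3 : IsIso (h ∣_ (Curv2.normalizationι Y ⁻¹ᵁ (V ⊓ V'))) := by
    subst hh
    rw [morphismRestrict_comp] at hW1
    exact @IsIso.of_isIso_comp_right _ _ _ _ _ _ _ hW2 hW1
  obtain ⟨w, hw⟩ := hνs.surj (genericPoint Y)
  obtain ⟨X', R, h1, h2, h3⟩ := normal_case H hνn hdim' h hreg (Curv2.normalizationι Y ⁻¹ᵁ (V ⊓ V'))
    ⟨w, by change Curv2.normalizationι Y w ∈ V ⊓ V'; rw [hw]; exact ⟨hηV, hηV'⟩⟩ hW3
  exact ⟨X', R, of_seq h1, inferInstance, h3⟩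

theorem seq_birational {Z S : Scheme.{u}} (r : Z ⟶ S) (hr : Resolve.IsNormPtBlowupSeq r) :
    ∀ (_ : IsIntegral S) (_ : Pi1.IsNormalScheme S), IsIntegral Z ∧ Pi1.IsNormalScheme Z ∧
      ∃ W : S.Opens, (W : Set S).Nonempty ∧ IsIso (r ∣_ W) := by
  induction hr with
  | @iso Z S e =>
    intro hS hSn
    have : Nonempty Z := ⟨e.inv (genericPoint S)⟩
    refine ⟨isIntegral_of_isOpenImmersion e.hom, fun z => ?_, ⊤, ⟨genericPoint S, trivial⟩, inferInstance⟩
    obtain ⟨h1, h2⟩ := hSn (e.hom z)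
    let e' := (asIso (e.hom.stalkMap z)).commRingCatIsoToRingEquiv
    exact ⟨e'.symm.toMulEquiv.isDomain _, IsIntegrallyClosed.of_equiv e'⟩
  | @step Z' Z S _ _ _ b r z hz hb hr ih =>
    intro hS hSn
    obtain ⟨hZi, hZn, W, hWne, hW⟩ := ih hS hSn
    obtain ⟨hνi, hνn, -, -⟩ := Groth.Agent.S2351.result Z'
    refine ⟨hνi, hνn, ?_⟩
    have hne := (ne_of_isBlowUp hz hb).1
    have h1 := isIso_normalized hZn b _ (isIso_compl hz hb)
    obtain ⟨O, hO1, hO2, hO3⟩ := CurvesC.ModDim.exists_open_le r W hWne ⟨{z}ᶜ, hz.isOpen_compl⟩ ⟨_, hne⟩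
    refine ⟨O, hO2, ?_⟩
    have h2 : IsIso (r ∣_ O) := K463.MinModel.isIso_restrict_of_le r hO1 hW
    have h3 : IsIso ((Curv2.normalizationι Z' ≫ b) ∣_ (r ⁻¹ᵁ O)) := K463.MinModel.isIso_restrict_of_le _ hO3 h1
    rw [← Category.assoc, morphismRestrict_comp]
    exact IsIso.comp_isIso' h3 h2

theorem isDominant_of {X Y : Scheme.{u}} [IrreducibleSpace Y] (f : X ⟶ Y) (W : Y.Opens)
    (hWne : (W : Set Y).Nonempty) (hW : IsIso (f ∣_ W)) : IsDominant f := by
  refine ⟨?_⟩
  have h1 : (W : Set Y) ⊆ Set.range f := by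
    intro y hy
    exact K456.Resol.exists_of_isIso_restrict f hW hy
  exact (W.isOpen.dense hWne).mono h1

theorem backward (Y : Scheme.{u}) [IsIntegral Y] [IsNoetherian Y]
    [QuasiCompact (Y.fromSpecStalk (genericPoint Y))] [QuasiSeparated (Y.fromSpecStalk (genericPoint Y))]
    (Xn : Scheme.{u}) (g : Xn ⟶ Curv2.normalization Y) (hg : Resolve.IsNormPtBlowupSeq g)
    (hp : IsProper (g ≫ Curv2.normalizationι Y)) (hreg : ∀ x : Xn, IsRegularLocalRing (Xn.presheaf.stalk x)) :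
    IsIntegral Xn ∧ ∃ V : Y.Opens, (V : Set Y).Nonempty ∧ IsIso ((g ≫ Curv2.normalizationι Y) ∣_ V) := by
  obtain ⟨hνi, hνn, hνs, -⟩ := Groth.Agent.S2351.result Y
  obtain ⟨hXi, hXn, W, hWne, hW⟩ := seq_birational g hg hνi hνn
  refine ⟨hXi, ?_⟩
  have hgd := isDominant_of g W hWne hW
  have hfin : IsFinite (Curv2.normalizationι Y) := K373.NormFin.isFinite_of_normal Y hXn (g ≫ Curv2.normalizationι Y)
  obtain ⟨V', hV'ne, hV'⟩ := K373.NormFin.exists_isIso Y hfin
  obtain ⟨O, hO1, hO2, hO3⟩ := CurvesC.ModDim.exists_open_le (Curv2.normalizationι Y) V' hV'ne W hWne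
  refine ⟨O, hO2, ?_⟩
  have h2 : IsIso (Curv2.normalizationι Y ∣_ O) := K463.MinModel.isIso_restrict_of_le _ hO1 hV'
  have h3 : IsIso (g ∣_ (Curv2.normalizationι Y ⁻¹ᵁ O)) := K463.MinModel.isIso_restrict_of_le _ hO3 hW
  rw [morphismRestrict_comp]
  exact IsIso.comp_isIso' h3 h2

/-- The main theorem, from the local one. -/
theorem main (H : Local.{u}) (Y : Scheme.{u}) [IsIntegral Y] [IsNoetherian Y]
    (hdim : topologicalKrullDim Y = 2)
    [QuasiCompact (Y.fromSpecStalk (genericPoint Y))] [QuasiSeparated (Y.fromSpecStalk (genericPoint Y))] :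
    (∃ (X : Scheme.{u}) (g : X ⟶ Y), IsProper g ∧ IsIntegral X ∧
        (∃ V : Y.Opens, (V : Set Y).Nonempty ∧ IsIso (g ∣_ V)) ∧ ∀ x : X, IsRegularLocalRing (X.presheaf.stalk x)) ↔
      ∃ (Xn : Scheme.{u}) (g : Xn ⟶ Curv2.normalization Y), Resolve.IsNormPtBlowupSeq g ∧
        IsProper (g ≫ Curv2.normalizationι Y) ∧ ∀ x : Xn, IsRegularLocalRing (Xn.presheaf.stalk x) := by
  constructor
  · rintro ⟨X, g, hg, hX, ⟨V, hVne, hV⟩, hreg⟩
    exact forward H Y hdim X g hg hX V hVne hV hreg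
  · rintro ⟨Xn, g, hg, hp, hreg⟩
    obtain ⟨h1, h2⟩ := backward Y Xn g hg hp hreg
    exact ⟨Xn, g ≫ Curv2.normalizationι Y, hp, h1, h2, hreg⟩

end K376.Spread3
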