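import Groth.Agent.CurvesC.Sol
import Groth.Agent.CurvesC.SolOfRat
import Groth.Agent.CurvesC.CousinT
import Groth.Agent.CalgC.DimFT
import Groth.Agent.MiscA.WCPlace

/-!
# Cousin problems descend along integral extensions with a trace
-/

set_option autoImplicit false

universe u

open CategoryTheory AlgebraicGeometry

namespace K376.TraceSol

open Groth.Agent.CurvesC Groth.Agent.CurvesC.ValCousin Groth.Agent.CurvesC.Sol Groth.Agent.CurvesC.CousinT

variable {K L : Type u} [Field K] [Field L] [Algebra K L]

/-- If `B` is integral over `A` and `P : L → K` is an additive retraction which preserves integrality, then Cousin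
problems over `A` are solvable if those over `B` are. -/
theorem sol_of_proj (A B : Type u) [CommRing A] [CommRing B] [Algebra A K] [Algebra B L] [Algebra A B]
    [Algebra A L] [IsScalarTower A K L] [IsScalarTower A B L] [Algebra.IsIntegral A B] (P : L →+ K)
    (hP : ∀ V : ValuationSubring K, Contains A V → ∀ z : L, IsIntegral V.toSubring z → P z ∈ V)
    (hP' : ∀ x : K, P (algebraMap K L x) = x) (hB : Sol L B) : Sol K A := by
  classical
  intro σ _ T f hcov hf
  have hcomap : ∀ V' : ValuationSubring L, Contains B V' → Contains A (V'.comap (algebraMap K L)) := by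
    intro V' hV' a
    rw [ValuationSubring.mem_comap, ← IsScalarTower.algebraMap_apply, IsScalarTower.algebraMap_apply A B L]
    exact hV' _
  have hsub : ∀ (V' : ValuationSubring L) (i : σ),
      ((((T i).image (algebraMap K L) : Finset L) : Set L) ⊆ V' ↔
        (T i : Set K) ⊆ (V'.comap (algebraMap K L) : ValuationSubring K)) := by
    intro V' i
    rw [Finset.coe_image, Set.image_subset_iff]
    rfl
  obtain ⟨g', hg'⟩ := hB σ (fun i => (T i).image (algebraMap K L)) (fun i => algebraMap K L (f i))
    (fun V' hV' => by
      obtain ⟨i, hi⟩ := hcov _ (hcomap V' hV')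
      exact ⟨i, (hsub V' i).2 hi⟩)
    (fun V' hV' i j hi hj => by
      have h1 := hf _ (hcomap V' hV') i j ((hsub V' i).1 hi) ((hsub V' j).1 hj)
      rw [ValuationSubring.mem_comap, map_sub] at h1
      exact h1)
  refine ⟨P g', fun V hV i hi => ?_⟩
  have h1 : IsIntegral V.toSubring (g' - algebraMap K L (f i)) := by
    refine isIntegral_of_forall_mem (A := V.toSubring) (fun V' hV' => ?_)
    have h2 : ∀ x ∈ V, algebraMap K L x ∈ V' := fun x hx => hV' ⟨x, hx⟩
    refine hg' V' ?_ i ?_
    · intro b
      have h3 : IsIntegral A (algebraMap B L b) :=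
        (Algebra.IsIntegral.isIntegral (R := A) b).map (IsScalarTower.toAlgHom A B L)
      refine Groth.Agent.MiscA.WCPlace.mem_of_isIntegral (R := A) V' (fun a => ?_) h3
      rw [IsScalarTower.algebraMap_apply A K L]
      exact h2 _ (hV a)
    · rw [hsub]
      intro x hx
      exact h2 x (hi hx)
  have h2 := hP V hV _ h1
  rwa [map_sub, hP'] at h2

theorem sol_of_algEquiv {A K K' : Type u} [CommRing A] [Field K] [Field K'] [Algebra A K] [Algebra A K']
    (e : K ≃ₐ[A] K') (h : Sol K A) : Sol K' A := by
  classical
  intro σ _ T f hcov hf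
  have hsub : ∀ (V : ValuationSubring K) (i : σ), (((T i).image e.symm : Finset K) : Set K) ⊆ V ↔
      (T i : Set K') ⊆ (V.comap (e.symm : K' →+* K) : ValuationSubring K') := by
    intro V i
    rw [Finset.coe_image, Set.image_subset_iff]
    rfl
  have hcon : ∀ V : ValuationSubring K, Contains A V → Contains A (V.comap (e.symm : K' →+* K)) := by
    intro V hV a
    rw [ValuationSubring.mem_comap]
    change e.symm (algebraMap A K' a) ∈ V
    rw [e.symm.commutes]
    exact hV a
  obtain ⟨g, hg⟩ := h σ (fun i => (T i).image e.symm) (fun i => e.symm (f i))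
    (fun V hV => by
      obtain ⟨i, hi⟩ := hcov _ (hcon V hV)
      exact ⟨i, (hsub V i).2 hi⟩)
    (fun V hV i j hi hj => by
      have h1 := hf _ (hcon V hV) i j ((hsub V i).1 hi) ((hsub V j).1 hj)
      rw [ValuationSubring.mem_comap, map_sub] at h1
      exact h1)
  refine ⟨e g, fun V hV i hi => ?_⟩
  have h2 := hg (V.comap (e : K →+* K')) (fun a => by
    rw [ValuationSubring.mem_comap]
    change e (algebraMap A K a) ∈ V
    rw [e.commutes]
    exact hV a) i (by
      intro x hx
      obtain ⟨y, hy, rfl⟩ := Finset.mem_image.1 (Finset.mem_coe.1 hx)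
      change e (e.symm y) ∈ V
      rw [e.apply_symm_apply]
      exact hi hy)
  have h3 : e (g - e.symm (f i)) ∈ V := h2
  rwa [map_sub, e.apply_symm_apply] at h3

/-- The trace divided by the degree. -/
theorem sol_of_trace [FiniteDimensional K L] (A B : Type u) [CommRing A] [CommRing B] [Algebra A K] [Algebra B L]
    [Algebra A B] [Algebra A L] [IsScalarTower A K L] [IsScalarTower A B L] [Algebra.IsIntegral A B]
    (hd : IsUnit ((Module.finrank K L : ℕ) : A)) (hB : Sol L B) : Sol K A := by
  obtain ⟨u, hu⟩ := hd
  have hu' : algebraMap A K (u : A) = (Module.finrank K L : ℕ) := by rw [hu, map_natCast]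
  have hinv : algebraMap A K (u : A) * algebraMap A K ((u⁻¹ : Aˣ) : A) = 1 := by
    rw [← map_mul, u.mul_inv, map_one]
  refine sol_of_proj A B ((AddMonoidHom.mulLeft (algebraMap A K ((u⁻¹ : Aˣ) : A))).comp
    (Algebra.trace K L).toAddMonoidHom) ?_ ?_ hB
  · intro V hV z hz
    change algebraMap A K ((u⁻¹ : Aˣ) : A) * Algebra.trace K L z ∈ V
    refine V.mul_mem _ _ (hV _) ?_
    have h1 : IsIntegral V.toSubring (Algebra.trace K L z) := Algebra.isIntegral_trace hz
    exact Groth.Agent.MiscA.WCPlace.mem_of_isIntegral (R := V.toSubring) V (fun a => a.2) h1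
  · intro x
    change algebraMap A K ((u⁻¹ : Aˣ) : A) * Algebra.trace K L (algebraMap K L x) = x
    rw [Algebra.trace_algebraMap, nsmul_eq_mul, ← hu', ← mul_assoc, mul_comm (algebraMap A K _), hinv, one_mul]

/-- The Cousin problems over the integral closure of `A_m` in `L`, for `B` finite over `A` with rational
singularities. -/
theorem sol_integralClosure (A B : Type u) [CommRing A] [CommRing B] [IsDomain A] [IsDomain B]
    [IsNoetherianRing B] [IsIntegrallyClosed A] [IsIntegrallyClosed B]
    (hBN : CAlg.IsNagata B)
    [Algebra A B] [Algebra.IsIntegral A B] (hinj : Function.Injective (algebraMap A B))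
    (K L : Type u) [Field K] [Field L] [Algebra A K] [IsFractionRing A K] [Algebra B L] [IsFractionRing B L]
    [Algebra K L] [Algebra A L] [IsScalarTower A K L] [IsScalarTower A B L]
    (hB : ∀ (n : Ideal B) [n.IsMaximal], ringKrullDim (Localization.AtPrime n) = 2 →
      Curv2.IsRationalSing (Localization.AtPrime n))
    (m : Ideal A) [m.IsMaximal] (hm : ringKrullDim (Localization.AtPrime m) = 2)
    [Algebra (Localization.AtPrime m) L] [IsScalarTower A (Localization.AtPrime m) L] :
    Sol L (integralClosure (Localization.AtPrime m) L) := by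
  let R := Localization.AtPrime m
  let S := integralClosure R L
  have hSinj : Function.Injective (algebraMap S L) := Subtype.val_injective
  have hIC : IC (K := L) S := fun z hz => by
    have h1 : IsIntegral R z := isIntegral_trans (A := S) z hz
    exact ⟨⟨z, h1⟩, rfl⟩
  have hBS : ∀ b : B, IsIntegral R (algebraMap B L b) := fun b =>
    ((Algebra.IsIntegral.isIntegral (R := A) b).map (IsScalarTower.toAlgHom A B L)).tower_top
  let ι : B →+* S := (algebraMap B L).codRestrict S.toSubring hBS
  have hι : ∀ b, ((ι b : S) : L) = algebraMap B L b := fun _ => rfl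
  intro σ _ T f hcov hf
  obtain ⟨g, hg⟩ := exists_good_of_local (K := L) (B := S) hSinj hIC (fun i => (T i : Set L)) f
    (e := 1) one_ne_zero (fun V hV => hcov V hV.1) (fun q hq _ => by
      -- the prime of `B`
      have hp : (q.comap ι).IsPrime := inferInstance
      have hpm : (q.comap ι).under A ≤ m := by
        intro a ha
        by_contra ham
        apply hq.ne_top
        rw [Ideal.eq_top_iff_one]
        have h1 : ι (algebraMap A B a) ∈ q := ha
        have h2 : IsUnit (algebraMap A R a) := IsLocalization.map_units R (⟨a, ham⟩ : m.primeCompl)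
        obtain ⟨w, hw⟩ := h2
        have h3 : ι (algebraMap A B a) * algebraMap R S ((w⁻¹ : Rˣ) : R) = 1 := by
          apply hSinj
          rw [map_mul, map_one]
          change algebraMap B L (algebraMap A B a) * algebraMap R L ((w⁻¹ : Rˣ) : R) = 1
          rw [← IsScalarTower.algebraMap_apply A B L, IsScalarTower.algebraMap_apply A R L, ← map_mul, ← hw,
            w.mul_inv, map_one]
        rw [← h3]
        exact q.mul_mem_right _ h1
      obtain ⟨n, hpn, hn, hnm⟩ := Ideal.exists_ideal_over_prime_of_isIntegral m (q.comap ι) hpm
      have hnmax : n.IsMaximal := by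
        have h1 : (n.comap (algebraMap A B)).IsMaximal := by rw [hnm]; infer_instance
        exact Ideal.isMaximal_of_isIntegral_of_isMaximal_comap n h1
      have hfaith : FaithfulSMul A B := (faithfulSMul_iff_algebraMap_injective A B).2 hinj
      have hheight : n.height = m.height := by
        rw [← Groth.Agent.CalgC.DimFT.height_under_eq (R := A) n]
        exact congrArg Ideal.height hnm
      have hn2 : ringKrullDim (Localization.AtPrime n) = 2 := by
        rw [IsLocalization.AtPrime.ringKrullDim_eq_height n, hheight,
          ← IsLocalization.AtPrime.ringKrullDim_eq_height m (Localization.AtPrime m), hm]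
      let Bn := Localization.AtPrime n
      let : Algebra Bn L := IsLocalization.localizationAlgebraOfSubmonoidLe Bn L n.primeCompl
        (nonZeroDivisors B) n.primeCompl_le_nonZeroDivisors
      have htow : IsScalarTower B Bn L := IsLocalization.localization_isScalarTower_of_submonoid_le Bn L
        n.primeCompl (nonZeroDivisors B) n.primeCompl_le_nonZeroDivisors
      have hfr : IsFractionRing Bn L :=
        IsFractionRing.isFractionRing_of_isDomain_of_isLocalization n.primeCompl Bn L
      have hnoeth : IsNoetherianRing Bn := IsLocalization.isNoetherianRing n.primeCompl Bn inferInstance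
      have hic : IsIntegrallyClosed Bn :=
        isIntegrallyClosed_of_isLocalization (R := B) (S := Bn) n.primeCompl n.primeCompl_le_nonZeroDivisors
      have hNn : CAlg.IsNagata Bn := Groth.Agent.Ega4B.NagBasic.isNagata_localization hBN n.primeCompl Bn
      -- `V ∈ LL q` contains `B_n`
      have hcon : ∀ V ∈ LL (K := L) q, Contains Bn V := by
        intro V hV z
        obtain ⟨b, t, rfl⟩ := IsLocalization.exists_mk'_eq n.primeCompl z
        have h1 : algebraMap Bn L (IsLocalization.mk' Bn b t) = algebraMap B L b * (algebraMap B L t)⁻¹ := by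
          have ht0 : algebraMap B L t ≠ 0 := by
            intro h0
            have h2 : (t : B) = 0 := IsFractionRing.injective B L (by rw [h0, map_zero])
            exact t.2 (h2 ▸ n.zero_mem)
          rw [eq_mul_inv_iff_mul_eq₀ ht0, IsScalarTower.algebraMap_apply B Bn L (t : B), ← map_mul,
            IsLocalization.mk'_spec, ← IsScalarTower.algebraMap_apply]
        rw [h1]
        refine V.mul_mem _ _ (hV.1 (ι b)) (hV.2 (ι t) fun htq => t.2 (hpn htq))
      -- a valuation ring which contains `B_n` contains `S`
      have hconS : ∀ V : ValuationSubring L, Contains Bn V →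
          Contains (integralClosure (Localization.AtPrime m) L) V := by
        intro V hV z
        have hz : IsIntegral R (z : L) := z.2
        refine Groth.Agent.MiscA.WCPlace.mem_of_isIntegral (R := R) V (fun r => ?_) hz
        obtain ⟨a, t, rfl⟩ := IsLocalization.exists_mk'_eq m.primeCompl r
        have htn : algebraMap A B t ∉ n := by
          intro h1
          have h2 : (t : A) ∈ n.comap (algebraMap A B) := h1
          rw [hnm] at h2
          exact t.2 h2
        have ht0 : algebraMap A L t ≠ 0 := by
          rw [IsScalarTower.algebraMap_apply A B L]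
          intro h0
          have h2 : algebraMap A B t = 0 := IsFractionRing.injective B L (by rw [h0, map_zero])
          exact htn (h2 ▸ n.zero_mem)
        have h1 : algebraMap R L (IsLocalization.mk' R a t) = algebraMap A L a * (algebraMap A L t)⁻¹ := by
          rw [eq_mul_inv_iff_mul_eq₀ ht0, IsScalarTower.algebraMap_apply A R L (t : A), ← map_mul,
            IsLocalization.mk'_spec, ← IsScalarTower.algebraMap_apply]
        have h3 : ((algebraMap A L t)⁻¹ : L) ∈ V := by
          have h4 := hV (IsLocalization.mk' Bn 1 (⟨algebraMap A B t, htn⟩ : n.primeCompl))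
          have h5 : algebraMap Bn L (IsLocalization.mk' Bn 1 (⟨algebraMap A B t, htn⟩ : n.primeCompl)) =
              (algebraMap A L t)⁻¹ := by
            refine eq_inv_of_mul_eq_one_left ?_
            rw [IsScalarTower.algebraMap_apply A B L,
              IsScalarTower.algebraMap_apply B Bn L (algebraMap A B t), ← map_mul]
            have h6 := IsLocalization.mk'_spec Bn (1 : B) (⟨algebraMap A B t, htn⟩ : n.primeCompl)
            rw [map_one] at h6
            change algebraMap Bn L (_ * algebraMap B Bn (algebraMap A B t)) = 1
            rw [h6, map_one]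
          rwa [h5] at h4
        rw [h1]
        refine V.mul_mem _ _ ?_ h3
        rw [IsScalarTower.algebraMap_apply A B L, IsScalarTower.algebraMap_apply B Bn L]
        exact hV _
      obtain ⟨g, hg⟩ := SolOfRat.sol_of_isRationalSing Bn hNn (hB n hn2) L σ T f
        (fun V hV => hcov V (hconS V hV)) (fun V hV => hf V (hconS V hV))
      exact ⟨g, fun V hV i hi => hg V (hcon V hV) i hi⟩)
  exact ⟨g, fun V hV i hi => hg V ⟨hV, by rw [map_one, inv_one]; exact V.one_mem⟩ i hi⟩

/-- Rational singularities descend along integral extensions with a retraction which preserves integrality. -/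
theorem isRationalSing_of_proj (A B : Type u) [CommRing A] [CommRing B] [IsDomain A] [IsDomain B]
    [IsNoetherianRing B] [IsIntegrallyClosed A] [IsIntegrallyClosed B]
    (hBN : CAlg.IsNagata B)
    [Algebra A B] [Algebra.IsIntegral A B] (hinj : Function.Injective (algebraMap A B))
    (K L : Type u) [Field K] [Field L] [Algebra A K] [IsFractionRing A K] [Algebra B L] [IsFractionRing B L]
    [Algebra K L] [Algebra A L] [IsScalarTower A K L] [IsScalarTower A B L]
    (hB : ∀ (n : Ideal B) [n.IsMaximal], ringKrullDim (Localization.AtPrime n) = 2 →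
      Curv2.IsRationalSing (Localization.AtPrime n))
    (P : L →+ K)
    (hP : ∀ V : ValuationSubring K, Contains A V → ∀ z : L, IsIntegral V.toSubring z → P z ∈ V)
    (hP' : ∀ x : K, P (algebraMap K L x) = x)
    (m : Ideal A) [m.IsMaximal] (hm : ringKrullDim (Localization.AtPrime m) = 2) :
    Curv2.IsRationalSing (Localization.AtPrime m) := by
  let R := Localization.AtPrime m
  let : Algebra R K := IsLocalization.localizationAlgebraOfSubmonoidLe R K m.primeCompl
    (nonZeroDivisors A) m.primeCompl_le_nonZeroDivisors
  have htow : IsScalarTower A R K := IsLocalization.localization_isScalarTower_of_submonoid_le R K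
    m.primeCompl (nonZeroDivisors A) m.primeCompl_le_nonZeroDivisors
  have hfr : IsFractionRing R K := IsFractionRing.isFractionRing_of_isDomain_of_isLocalization m.primeCompl R K
  let : Algebra R L := ((algebraMap K L).comp (algebraMap R K)).toAlgebra
  have htow2 : IsScalarTower R K L := IsScalarTower.of_algebraMap_eq (fun _ => rfl)
  have htow3 : IsScalarTower A R L := IsScalarTower.of_algebraMap_eq (fun a => by
    rw [IsScalarTower.algebraMap_apply A K L, IsScalarTower.algebraMap_apply A R K]
    rfl)
  have h1 : Sol L (integralClosure R L) := sol_integralClosure A B hBN hinj K L hB m hm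
  have h2 : Sol K R := sol_of_proj R (integralClosure R L) P (fun V hV z hz => hP V (fun a => by
    rw [IsScalarTower.algebraMap_apply A R K]; exact hV _) z hz) hP' h1
  refine isRationalSing_of_sol R (fun K' _ _ _ => ?_)
  exact sol_of_algEquiv (IsLocalization.algEquiv (nonZeroDivisors R) K K') h2

/-- Rational singularities descend along integral extensions of degree a unit. -/
theorem isRationalSing_of_degree (A B : Type u) [CommRing A] [CommRing B] [IsDomain A] [IsDomain B]
    [IsNoetherianRing B] [IsIntegrallyClosed A] [IsIntegrallyClosed B]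
    (hBN : CAlg.IsNagata B)
    [Algebra A B] [Algebra.IsIntegral A B] (hinj : Function.Injective (algebraMap A B))
    (K L : Type u) [Field K] [Field L] [Algebra A K] [IsFractionRing A K] [Algebra B L] [IsFractionRing B L]
    [Algebra K L] [Algebra A L] [IsScalarTower A K L] [IsScalarTower A B L]
    (hdeg : IsUnit ((Module.finrank K L : ℕ) : A))
    (hB : ∀ (n : Ideal B) [n.IsMaximal], ringKrullDim (Localization.AtPrime n) = 2 →
      Curv2.IsRationalSing (Localization.AtPrime n))
    (m : Ideal A) [m.IsMaximal] (hm : ringKrullDim (Localization.AtPrime m) = 2) :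
    Curv2.IsRationalSing (Localization.AtPrime m) := by
  have hfd : FiniteDimensional K L := by
    refine Module.finite_of_finrank_pos (Nat.pos_of_ne_zero fun h0 => ?_)
    rw [h0, Nat.cast_zero] at hdeg
    exact not_isUnit_zero hdeg
  obtain ⟨u, hu⟩ := hdeg
  have hu' : algebraMap A K (u : A) = (Module.finrank K L : ℕ) := by rw [hu, map_natCast]
  have hinv : algebraMap A K (u : A) * algebraMap A K ((u⁻¹ : Aˣ) : A) = 1 := by
    rw [← map_mul, u.mul_inv, map_one]
  refine isRationalSing_of_proj A B hBN hinj K L hB
    ((AddMonoidHom.mulLeft (algebraMap A K ((u⁻¹ : Aˣ) : A))).comp (Algebra.trace K L).toAddMonoidHom) ?_ ?_ m hm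
  · intro V hV z hz
    change algebraMap A K ((u⁻¹ : Aˣ) : A) * Algebra.trace K L z ∈ V
    refine V.mul_mem _ _ (hV _) ?_
    have h1 : IsIntegral V.toSubring (Algebra.trace K L z) := Algebra.isIntegral_trace hz
    exact Groth.Agent.MiscA.WCPlace.mem_of_isIntegral (R := V.toSubring) V (fun a => a.2) h1
  · intro x
    change algebraMap A K ((u⁻¹ : Aˣ) : A) * Algebra.trace K L (algebraMap K L x) = x
    rw [Algebra.trace_algebraMap, nsmul_eq_mul, ← hu', ← mul_assoc, mul_comm (algebraMap A K _), hinv, one_mul]

end K376.TraceSol
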